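import Cfsg.Agent.H641.Gow.Rgd
import Cfsg.Agent.H636.Gow.Par

/-!
# Rational characters of odd degree from cuspidal characters (S4913, helper641)

* `HC_eq_of_tw` : `HC α = HC β` if `α = β^u` for some `u` permuting the simple roots of `J`;
* `ratOdd_of_cusp` : `α` a cuspidal irreducible character of odd degree of `L_J`, `J ≠ ∅`, `|G : P_J|` odd, such that for
  every automorphism `σ` of `ℂ` there is `u` permuting the simple roots of `J` with `σ α = α^u`, and at most two `w`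
  permuting the simple roots of `J` satisfy `α = α^w`: then `RatOdd G`.
-/

set_option autoImplicit false

open scoped ComplexConjugate Pointwise
open Cfsg

namespace Cfsg.Agent.H641.Gow

open Cfsg.Agent.OddOrderCharacters.Clifford Cfsg.Agent.Characters Cfsg.Agent.H53.HC

open CoxeterSystem Cfsg.Agent.ChevalleyStructure.CoxeterGeom Cfsg.Agent.Tits.Roots Cfsg.Agent.Tits.Core
  Cfsg.Agent.Tits.Exchange Cfsg.Agent.Nodes.Reps Cfsg.Agent.Nodes.BNOf Cfsg.Agent.Nodes.StabComb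
  Cfsg.Agent.Nodes.Bruhat Cfsg.Agent.Nodes.OppDec Cfsg.Agent.Nodes.LeviDec

variable {I W Y : Type*} [Fintype I] [DecidableEq I] [Group W] [Group Y] {M : CoxeterMatrix I}
  {cs : CoxeterSystem M W} {A : I → I → ℤ} {h : IsCartan M A} {p : ℕ} {T : Subgroup Y} {n : I → Y}
  {X : (I → ℤ) → Subgroup Y}

theorem Perm.mul' {J : Set I} {v w : W} (hv : Perm cs h J v) (hw : Perm cs h J w) : Perm cs h J (v * w) := by
  constructor
  · intro i hi
    obtain ⟨k, hk, e⟩ := hv.1 i hi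
    obtain ⟨l, hl, e2⟩ := hw.1 k hk
    exact ⟨l, hl, by rw [mul_inv_rev, rep_mul_apply, e, e2]⟩
  · intro i hi
    obtain ⟨k, hk, e⟩ := hw.2 i hi
    obtain ⟨l, hl, e2⟩ := hv.2 k hk
    exact ⟨l, hl, by rw [rep_mul_apply, e, e2]⟩

theorem Perm.one' (cs : CoxeterSystem M W) (h : IsCartan M A) (J : Set I) : Perm cs h J (1 : W) := by
  constructor
  · intro i hi
    exact ⟨i, hi, by rw [inv_one, map_one]; rfl⟩
  · intro i hi
    exact ⟨i, hi, by rw [map_one]; rfl⟩

variable (R : RGD cs h p T n X)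

include R

theorem SS_image_right {J : Set I} {α β : ↥(LJ cs h T X J) → ℂ} {u : W} {g : Y} (hu : Perm cs h J u)
    (hg : Rp cs R.nsys u g) (ht : Tw cs h T X J α β g) :
    SS R J α β = (fun w => w * u) '' SS R J α α := by
  ext w
  constructor
  · rintro ⟨hw, g', hg', ht'⟩
    refine ⟨w * u⁻¹, ⟨Perm.mul' hw hu.inv, g' * g⁻¹, hg'.mul hg.inv, ?_⟩, by simp⟩
    intro l hl hl'
    have h1 : g'⁻¹ * l * g' ∈ LJ cs h T X J := conj_mem_LJ R hg' hw hl
    rw [ht' l hl h1]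
    have h2 : g * (g'⁻¹ * l * g') * g⁻¹ ∈ LJ cs h T X J := conj_mem_LJ' R hg hu h1
    have h3 : g⁻¹ * (g * (g'⁻¹ * l * g') * g⁻¹) * g ∈ LJ cs h T X J := conj_mem_LJ R hg hu h2
    have h4 := ht _ h2 h3
    have e1 : (⟨g'⁻¹ * l * g', h1⟩ : LJ cs h T X J) = ⟨g⁻¹ * (g * (g'⁻¹ * l * g') * g⁻¹) * g, h3⟩ :=
      Subtype.ext (by change g'⁻¹ * l * g' = g⁻¹ * (g * (g'⁻¹ * l * g') * g⁻¹) * g; group)
    have e2 : (⟨(g' * g⁻¹)⁻¹ * l * (g' * g⁻¹), hl'⟩ : LJ cs h T X J) = ⟨g * (g'⁻¹ * l * g') * g⁻¹, h2⟩ :=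
      Subtype.ext (by change (g' * g⁻¹)⁻¹ * l * (g' * g⁻¹) = g * (g'⁻¹ * l * g') * g⁻¹; group)
    rw [e1, e2, h4]
  · rintro ⟨w', ⟨hw, g', hg', ht'⟩, rfl⟩
    refine ⟨Perm.mul' hw hu, g' * g, hg'.mul hg, ?_⟩
    intro l hl hl'
    have h1 : g'⁻¹ * l * g' ∈ LJ cs h T X J := conj_mem_LJ R hg' hw hl
    have h2 : g⁻¹ * (g'⁻¹ * l * g') * g ∈ LJ cs h T X J := conj_mem_LJ R hg hu h1
    rw [ht' l hl h1, ht _ h1 h2]
    congr 1
    exact Subtype.ext (by change g⁻¹ * (g'⁻¹ * l * g') * g = (g' * g)⁻¹ * l * (g' * g); group)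

theorem SS_image_left {J : Set I} {α β : ↥(LJ cs h T X J) → ℂ} {u : W} {g : Y} (hu : Perm cs h J u)
    (hg : Rp cs R.nsys u g) (ht : Tw cs h T X J α β g) :
    SS R J α β = (fun w => u * w) '' SS R J β β := by
  ext w
  constructor
  · rintro ⟨hw, g', hg', ht'⟩
    refine ⟨u⁻¹ * w, ⟨Perm.mul' hu.inv hw, g⁻¹ * g', hg.inv.mul hg', ?_⟩, by simp⟩
    intro l hl hl'
    have h1 : g * l * g⁻¹ ∈ LJ cs h T X J := conj_mem_LJ' R hg hu hl
    have h2 : g⁻¹ * (g * l * g⁻¹) * g ∈ LJ cs h T X J := conj_mem_LJ R hg hu h1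
    have h3 : g'⁻¹ * (g * l * g⁻¹) * g' ∈ LJ cs h T X J := conj_mem_LJ R hg' hw h1
    have e1 : (⟨l, hl⟩ : LJ cs h T X J) = ⟨g⁻¹ * (g * l * g⁻¹) * g, h2⟩ :=
      Subtype.ext (by change l = g⁻¹ * (g * l * g⁻¹) * g; group)
    have e2 : (⟨(g⁻¹ * g')⁻¹ * l * (g⁻¹ * g'), hl'⟩ : LJ cs h T X J) = ⟨g'⁻¹ * (g * l * g⁻¹) * g', h3⟩ :=
      Subtype.ext (by change (g⁻¹ * g')⁻¹ * l * (g⁻¹ * g') = g'⁻¹ * (g * l * g⁻¹) * g'; group)
    rw [e1, e2, ← ht _ h1 h2, ← ht' _ h1 h3]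
  · rintro ⟨w', ⟨hw, g', hg', ht'⟩, rfl⟩
    refine ⟨Perm.mul' hu hw, g * g', hg.mul hg', ?_⟩
    intro l hl hl'
    have h1 : g⁻¹ * l * g ∈ LJ cs h T X J := conj_mem_LJ R hg hu hl
    have h2 : g'⁻¹ * (g⁻¹ * l * g) * g' ∈ LJ cs h T X J := conj_mem_LJ R hg' hw h1
    rw [ht l hl h1, ht' _ h1 h2]
    congr 1
    exact Subtype.ext (by change g'⁻¹ * (g⁻¹ * l * g) * g' = (g * g')⁻¹ * l * (g * g'); group)

/-- **Conjugate cuspidal characters have the same Harish-Chandra induction.** -/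
theorem HC_eq_of_tw [Finite W] [Fintype Y] (hG : GG cs h T X = ⊤) {J : Set I} {α β : ↥(LJ cs h T X J) → ℂ}
    (hα : IsIrrCharacter _ α) (hβ : IsIrrCharacter _ β) (cα : CuspL cs h T X J α) (cβ : CuspL cs h T X J β) {u : W}
    {g : Y} (hu : Perm cs h J u) (hg : Rp cs R.nsys u g) (ht : Tw cs h T X J α β g) : HC R J α = HC R J β := by
  have h1 := classInner_HC R hG J hα hα cα
  have h2 := classInner_HC R hG J hα hβ cα
  have h3 := classInner_HC R hG J hβ hβ cβ
  have e1 : (SS R J α β).ncard = (SS R J α α).ncard := by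
    rw [SS_image_right R hu hg ht, Set.ncard_image_of_injective _ (mul_left_injective u)]
  have e2 : (SS R J α β).ncard = (SS R J β β).ncard := by
    rw [SS_image_left R hu hg ht, Set.ncard_image_of_injective _ (mul_right_injective u)]
  have h4 : classInner (HC R J β) (HC R J α) = ((SS R J α β).ncard : ℂ) := by
    rw [← Core.classInner_conj_symm, h2, Complex.conj_natCast]
  have h5 : classInner (HC R J α - HC R J β) (HC R J α - HC R J β) = 0 := by
    rw [Core.classInner_sub_left, Core.classInner_sub_right, Core.classInner_sub_right, h1, h2, h3, h4, e1, ← e2, e1]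
    ring
  exact sub_eq_zero.1 (Core.classInner_self_eq_zero h5)

theorem HC_comp [Finite W] [Fintype Y] {J : Set I} (α : ↥(LJ cs h T X J) → ℂ) (σ : ℂ ≃+* ℂ) :
    (fun y => σ (HC R J α y)) = HC R J (fun l => σ (α l)) := by
  funext y
  unfold HC
  rw [indFun_apply, indFun_apply, map_mul, map_inv₀, map_natCast, map_sum]
  congr 1
  refine Finset.sum_congr rfl fun x _ => ?_
  by_cases hx : x⁻¹ * y * x ∈ PJ cs h T X J
  · rw [ext_apply_mem _ _ _ hx, ext_apply_mem _ _ _ hx]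
    rfl
  · rw [ext_apply_not_mem _ _ _ hx, ext_apply_not_mem _ _ _ hx, map_zero]

/-- **Rational characters of odd degree.** -/
theorem ratOdd_of_cusp [Finite W] [Fintype Y] (hG : GG cs h T X = ⊤) {J : Set I} (hJ : J.Nonempty)
    {α : ↥(LJ cs h T X J) → ℂ} (hα : IsIrrCharacter _ α) (cα : CuspL cs h T X J α) {d : ℕ} (hd : Odd d)
    (hd1 : α 1 = d) (hodd : Odd (PJ cs h T X J).index)
    (hgal : ∀ σ : ℂ ≃+* ℂ, ∃ u g, Rp cs R.nsys u g ∧ Perm cs h J u ∧ Tw cs h T X J α (fun l => σ (α l)) g)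
    (hstab : (SS R J α α).ncard ≤ 2) : Cfsg.Agent.H636.Gow.RatOdd Y := by
  classical
  have : Fintype ↥(PJ cs h T X J) := Fintype.ofFinite _
  have hαP : IsIrrCharacter _ (α ∘ projL R J) := Core.isIrr_comp _ (projL_surjective R J) hα
  have hchar : IsCharacter Y (HC R J α) := Cfsg.Agent.S0148.result _ _ (Core.isIrr_isCharacter hαP)
  have hrat : ∀ g : Y, ∃ q : ℚ, HC R J α g = q := by
    intro y
    apply Cfsg.Agent.Characters.GaloisBasic.exists_rat_of_forall_ringEquiv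
    · exact (Cfsg.Agent.Characters.GaloisBasic.isIntegral_apply hchar y).tower_top
    · intro σ
      obtain ⟨u, g, hg, hu, ht⟩ := hgal σ
      have hσ : IsIrrCharacter _ (fun l => σ (α l)) := Cfsg.Agent.Characters.GaloisIrr.isIrr_map σ hα
      have cσ : CuspL cs h T X J (fun l => σ (α l)) := by
        intro i hi _
        have h1 := congrArg σ (cα i hi)
        rwa [map_sum, map_zero] at h1
      have h1 := HC_eq_of_tw R hG hα hσ cα cσ hu hg ht
      rw [← HC_comp] at h1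
      exact (congrFun h1 y).symm
  obtain ⟨j, hj⟩ := hJ
  have hne : α ∘ projL R J ≠ 1 := by
    intro he
    have : Fintype (rad cs h X J j) := Fintype.ofFinite _
    have h1 := cα j hj
    have h2 : ∀ u : rad cs h X J j, α ⟨u, rad_le_LJ J j u.2⟩ = 1 := by
      intro u
      have h3 := congrFun he ⟨u, rad_le_PJ J j u.2⟩
      rw [Function.comp_apply, Pi.one_apply] at h3
      rw [← h3]
      exact congrArg α (projL_L R (rad_le_LJ J j u.2)).symm
    rw [Finset.sum_congr rfl fun u _ => h2 u, Finset.sum_const, nsmul_eq_mul, mul_one] at h1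
    have h4 : (Finset.univ : Finset (rad cs h X J j)).card ≠ 0 := by
      rw [Finset.card_univ]
      exact Fintype.card_ne_zero
    exact h4 (by exact_mod_cast h1)
  have h1 : classInner (HC R J α) 1 = 0 := by
    unfold HC
    rw [classInner_indFun _ _ _ (Core.isIrr_isClassFunction Core.isIrr_one)]
    have e : (fun x : ↥(PJ cs h T X J) => (1 : Y → ℂ) x) = 1 := rfl
    rw [e]
    exact Core.classInner_irr_ne hαP Core.isIrr_one hne
  refine Cfsg.Agent.H636.Gow.ratOdd_of_norm_le_two (ψ := HC R J α) ?_ hrat h1 ?_ (classInner_HC R hG J hα hα cα) hstab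
  · exact ⟨HC R J α, 0, hchar, Core.isCharacter_zero, by rw [sub_zero]⟩
  · refine ⟨((PJ cs h T X J).index * d : ℕ), ?_, ?_⟩
    · rw [Int.odd_coe_nat]
      exact hodd.mul hd
    · unfold HC
      rw [indFun_one]
      have : (α ∘ projL R J) 1 = d := by rw [Function.comp_apply, map_one, hd1]
      rw [this]
      push_cast
      ring

end Cfsg.Agent.H641.Gow
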