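import Cfsg.Agent.KFacts.RgdChevCoord
import Cfsg.Agent.KFacts.RgdSyl
import Cfsg.Agent.BpExc.TorChev
import Cfsg.Agent.H53.HC.Prod
import Cfsg.Agent.LieRecognition.BNCox

/-!
# The torus of a Chevalley group over a field with `2 ^ f` elements on a Levi component of type `A_3`
(S4913, helper641)

* `inner_chain` : it acts by inner automorphisms;
* `odd_index` : parabolic subgroups have odd index.
-/

set_option autoImplicit false
set_option linter.unusedSectionVars false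

namespace Cfsg.Agent.H641.Gow

open CoxeterSystem Cfsg.Agent.ChevalleyStructure.CoxeterGeom Cfsg.Agent.Tits.Roots Cfsg.Agent.Tits.Core
  Cfsg.Agent.Tits.Exchange Cfsg.Agent.Nodes.Reps Cfsg.Agent.Nodes.BNOf Cfsg.Agent.Nodes.StabComb
  Cfsg.Agent.Nodes.Bruhat Cfsg.Agent.Nodes.OppDec Cfsg.Agent.Nodes.LeviDec
  Cfsg.Agent.KFacts.RgdField Cfsg.Agent.KFacts.RgdChevCoord Cfsg.Agent.Nodes.RGDChev
open Cfsg.Lie Cfsg.Agent.ChevalleyStructure Cfsg.Agent.ChevalleyStructure.CoxeterGeomTypes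
open Cfsg.Agent.H53.HC (MJ)

universe u

section par

variable {I W Y : Type*} [Fintype I] [DecidableEq I] [Group W] [Group Y] {M : CoxeterMatrix I}
  {cs : CoxeterSystem M W} {A : I → I → ℤ} {h : IsCartan M A} {T : Subgroup Y} {n : I → Y}
  {X : (I → ℤ) → Subgroup Y}

/-- parabolic subgroups have odd index in characteristic two -/
theorem odd_index [Finite W] [Finite Y] (R : RGD cs h 2 T n X) (hG : GG cs h T X = ⊤) (J : Set I) :
    Odd (PJ cs h T X J).index := by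
  have : Fact (Nat.Prime 2) := ⟨Nat.prime_two⟩
  have h1 := KFacts.RgdSyl.not_dvd_relIndex R
  rw [hG, Subgroup.relIndex_top_right] at h1
  rw [← Nat.not_even_iff_odd, even_iff_two_dvd]
  intro h2
  refine h1 (h2.trans (Subgroup.index_dvd_of_le ?_))
  have h3 : RGD.Sup X (RGD.Pos cs h) ≤ RGD.B cs h T X := le_sup_right
  exact le_trans h3 (B_le_PJ (J := J))

end par

section chain

variable {D : ChevalleyDatum} {l : ℕ} {M : CoxeterMatrix (Fin l)} (hp : IsType D l M) {K : Type u} [Field K] [Finite K]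
  [CharP K 2] {W : Type*} [Group W] (cs : CoxeterSystem M W)

include hp in
/-- a vector is the combination of the simple roots of its support -/
theorem prod_eq_one {φ : (Fin l → ℤ) → K} (h0 : φ 0 = 1) (hadd : ∀ x y, φ (x + y) = φ x * φ y) {J : Set (Fin l)}
    (hJ : ∀ i ∈ J, φ (sr i) = 1) {x : Fin l → ℤ} (hx : ∀ i, i ∉ J → x i = 0) : φ x = 1 := by
  have hneg : ∀ x, φ x = 1 → φ (-x) = 1 := by
    intro x h1
    have h2 := hadd x (-x)
    rw [add_neg_cancel, h0, h1, one_mul] at h2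
    exact h2.symm
  have hnat : ∀ (m : ℕ) (x), φ x = 1 → φ (m • x) = 1 := by
    intro m x h1
    induction m with
    | zero => rw [zero_smul, h0]
    | succ m ih => rw [succ_nsmul, hadd, ih, h1, one_mul]
  have hint : ∀ (m : ℤ) (x), φ x = 1 → φ (m • x) = 1 := by
    intro m x h1
    obtain ⟨a, rfl | rfl⟩ := m.eq_nat_or_neg
    · rw [natCast_zsmul]; exact hnat a x h1
    · rw [neg_smul, natCast_zsmul]; exact hneg _ (hnat a x h1)
  have hsum : ∀ s : Finset (Fin l), φ (∑ i ∈ s, x i • sr i) = 1 := by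
    intro s
    induction s using Finset.induction_on with
    | empty => rw [Finset.sum_empty, h0]
    | insert i s hi ih =>
      rw [Finset.sum_insert hi, hadd, ih, mul_one]
      by_cases hiJ : i ∈ J
      · exact hint _ _ (hJ i hiJ)
      · rw [hx i hiJ, zero_smul, h0]
  have h1 : x = ∑ i, x i • sr i := by
    funext j
    rw [Finset.sum_apply, Finset.sum_eq_single j]
    · rw [Pi.smul_apply, sr_self, smul_eq_mul, mul_one]
    · intro i _ hij
      rw [Pi.smul_apply, sr_ne (Ne.symm hij), smul_zero]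
    · intro hj
      exact absurd (Finset.mem_univ _) hj
  rw [h1]
  exact hsum _

theorem exists_fourth {c : K} (hc : c ≠ 0) : ∃ b : K, b ≠ 0 ∧ b ^ 4 = c := by
  obtain ⟨f, hf0, hf⟩ : ∃ f : ℕ, 0 < f ∧ Nat.card K = 2 ^ f := by
    have : Fintype K := Fintype.ofFinite K
    obtain ⟨f, -, hf⟩ := FiniteField.card K 2
    exact ⟨f, f.pos, by rw [Nat.card_eq_fintype_card, hf]⟩
  have hcop : Nat.Coprime (Nat.card Kˣ) 4 := by
    rw [Nat.card_units, hf, Nat.coprime_comm]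
    have h2 : Nat.Coprime 2 (2 ^ f - 1) := by
      rw [Nat.coprime_two_left]
      obtain ⟨m, rfl⟩ : ∃ m, f = m + 1 := ⟨f - 1, by omega⟩
      have := Nat.one_le_pow m 2 (by norm_num)
      exact ⟨2 ^ m - 1, by rw [pow_succ]; omega⟩
    exact Nat.Coprime.pow_left 2 h2
  obtain ⟨b, hb⟩ := (powCoprime (G := Kˣ) (n := 4) hcop).surjective (Units.mk0 c hc)
  exact ⟨b, b.ne_zero, congrArg Units.val hb⟩

include hp in
/-- **The torus acts by inner automorphisms on Levi components of type `A_3`.** -/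
theorem inner_chain (k : Fin 3 ↪ Fin l)
    (hA : cartanOf D l (k 0) (k 0) = 2 ∧ cartanOf D l (k 1) (k 1) = 2 ∧ cartanOf D l (k 2) (k 2) = 2 ∧
      cartanOf D l (k 0) (k 1) = -1 ∧ cartanOf D l (k 1) (k 0) = -1 ∧ cartanOf D l (k 1) (k 2) = -1 ∧
      cartanOf D l (k 2) (k 1) = -1 ∧ cartanOf D l (k 0) (k 2) = 0 ∧ cartanOf D l (k 2) (k 0) = 0) :
    ∀ t ∈ TT D K, ∃ a ∈ MJ cs hp.isCartan (XX D l K) (Set.range k),
      ∀ m ∈ MJ cs hp.isCartan (XX D l K) (Set.range k), t * m * t⁻¹ = a * m * a⁻¹ := by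
  intro t ht
  have : Fact (Nat.Prime 2) := ⟨Nat.prime_two⟩
  have := finite_W hp cs
  have C := coords (K := K) hp cs 2
  have CR := coroots (K := K) hp cs 2
  obtain ⟨a00, a11, a22, a01, a10, a12, a21, a02, a20⟩ := hA
  have hroot : ∀ i : Fin l, IsRoot cs hp.isCartan (sr i) := fun i => isRoot_sr _ _ i
  have hne : ∀ i : Fin l, ch hp (sr i) t ≠ 0 := fun i => (C.coord _ (hroot i)).chi_ne_zero ht
  obtain ⟨b0, hb0, e0⟩ := exists_fourth (hne (k 0))
  obtain ⟨b1, hb1, e1⟩ := exists_fourth (hne (k 1))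
  obtain ⟨b2, hb2, e2⟩ := exists_fourth (hne (k 2))
  obtain ⟨s0, hs0⟩ : ∃ s, s = b0 ^ 3 * b1 ^ 2 * b2 := ⟨_, rfl⟩
  obtain ⟨s1, hs1⟩ : ∃ s, s = b0 ^ 2 * b1 ^ 4 * b2 ^ 2 := ⟨_, rfl⟩
  obtain ⟨s2, hs2⟩ : ∃ s, s = b0 * b1 ^ 2 * b2 ^ 3 := ⟨_, rfl⟩
  have n0 : s0 ≠ 0 := by rw [hs0]; exact mul_ne_zero (mul_ne_zero (pow_ne_zero _ hb0) (pow_ne_zero _ hb1)) hb2
  have n1 : s1 ≠ 0 := by
    rw [hs1]; exact mul_ne_zero (mul_ne_zero (pow_ne_zero _ hb0) (pow_ne_zero _ hb1)) (pow_ne_zero _ hb2)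
  have n2 : s2 ≠ 0 := by
    rw [hs2]; exact mul_ne_zero (mul_ne_zero hb0 (pow_ne_zero _ hb1)) (pow_ne_zero _ hb2)
  -- the element
  have hmem : ∀ (i : Fin 3) (s : K), s ≠ 0 → hc hp (k i) s ∈ MJ cs hp.isCartan (XX D l K) (Set.range k) := by
    intro i s hs
    have h1 : hc hp (k i) s ∈ TT D K ⊓ (XX D l K (sr (k i)) ⊔ XX D l K (-sr (k i))) :=
      (CR.mem _ _).2 ⟨s, hs, rfl⟩
    have h2 : sr (k i) ∈ RootsJ cs hp.isCartan (Set.range k) := PosJ_subset _ (sr_mem_PosJ ⟨i, rfl⟩)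
    refine (sup_le (RGD.le_Sup h2) (RGD.le_Sup (RootsJ.neg h2)) : _ ≤ _) h1.2
  obtain ⟨a, ha⟩ : ∃ a, a = hc hp (k 0) s0 * hc hp (k 1) s1 * hc hp (k 2) s2 := ⟨_, rfl⟩
  have haM : a ∈ MJ cs hp.isCartan (XX D l K) (Set.range k) := by
    rw [ha]
    exact mul_mem (mul_mem (hmem 0 s0 n0) (hmem 1 s1 n1)) (hmem 2 s2 n2)
  have haT : a ∈ TT D K := by
    rw [ha]
    exact mul_mem (mul_mem (hc_mem hp _ n0) (hc_mem hp _ n1)) (hc_mem hp _ n2)
  have hval : ∀ i : Fin l, ch hp (sr i) a = s0 ^ cartanOf D l (k 0) i * s1 ^ cartanOf D l (k 1) i *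
      s2 ^ cartanOf D l (k 2) i := by
    intro i
    have h5 := C.coord _ (hroot i)
    rw [ha, h5.chi_mul (mul_mem (hc_mem hp _ n0) (hc_mem hp _ n1)) (hc_mem hp _ n2),
      h5.chi_mul (hc_mem hp _ n0) (hc_mem hp _ n1), CR.char _ _ _ n0, CR.char _ _ _ n1, CR.char _ _ _ n2]
  have v0 : ch hp (sr (k 0)) a = ch hp (sr (k 0)) t := by
    rw [hval, a00, a10, a20, ← e0, hs0, hs1, hs2, zpow_zero, mul_one, zpow_neg_one, zpow_ofNat]
    field_simp
  have v1 : ch hp (sr (k 1)) a = ch hp (sr (k 1)) t := by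
    rw [hval, a01, a11, a21, ← e1, hs0, hs1, hs2, zpow_neg_one, zpow_neg_one, zpow_ofNat]
    field_simp
  have v2 : ch hp (sr (k 2)) a = ch hp (sr (k 2)) t := by
    rw [hval, a02, a12, a22, ← e2, hs0, hs1, hs2, zpow_zero, one_mul, zpow_neg_one, zpow_ofNat]
    field_simp
  have vi : ∀ i : Fin 3, ch hp (sr (k i)) a = ch hp (sr (k i)) t := by
    intro i
    fin_cases i
    · exact v0
    · exact v1
    · exact v2
  -- the rest centralises
  have hsT : a⁻¹ * t ∈ TT D K := mul_mem (inv_mem haT) ht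
  obtain ⟨φ, h0, hadd, hφ⟩ := Cfsg.Agent.BpExc.TorChev.chAdd hp cs 2 (a⁻¹ * t) hsT
  have hone : ∀ i ∈ Set.range k, φ (sr i) = 1 := by
    rintro _ ⟨i, rfl⟩
    rw [← hφ _ (hroot _)]
    have h5 := C.coord _ (hroot (k i))
    have h6 := h5.chi_mul haT hsT
    rw [mul_inv_cancel_left, vi i] at h6
    exact (mul_eq_left₀ (hne (k i))).1 h6.symm
  have hcen : ∀ m ∈ MJ cs hp.isCartan (XX D l K) (Set.range k), (a⁻¹ * t) * m = m * (a⁻¹ * t) := by
    have hle : MJ cs hp.isCartan (XX D l K) (Set.range k) ≤ Subgroup.centralizer ({a⁻¹ * t} : Set ↥(D.group K)) := by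
      refine RGD.Sup_le fun x hx u hu => ?_
      rw [Subgroup.mem_centralizer_iff]
      rintro _ rfl
      have h5 := C.coord _ hx.1
      obtain ⟨b, rfl⟩ := (h5.mem u).1 hu
      have h6 := h5.act _ hsT b
      rw [hφ _ hx.1, prod_eq_one hp h0 hadd hone hx.2, one_mul] at h6
      exact mul_inv_eq_iff_eq_mul.1 h6
    intro m hm
    exact Subgroup.mem_centralizer_iff.1 (hle hm) _ rfl
  refine ⟨a, haM, fun m hm => ?_⟩
  have h7 := hcen m hm
  calc t * m * t⁻¹ = a * ((a⁻¹ * t) * m) * t⁻¹ := by group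
    _ = a * (m * (a⁻¹ * t)) * t⁻¹ := by rw [h7]
    _ = a * m * a⁻¹ := by group

end chain

end Cfsg.Agent.H641.Gow
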