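import Cfsg.Agent.H641.Gow.Pair
import Cfsg.Agent.H641.Gow.TorIn
import Cfsg.Agent.H35.ExcIdx
import Cfsg.Agent.H650.GowChev

/-!
# The row `E₈(2 ^ f)` (S4913, helper641)

`J = {1,3,4} ∪ {6,7,8}` (Bourbaki), the cuspidal characters of order 5 and 15.
-/

set_option autoImplicit false
set_option linter.unusedSectionVars false

namespace Cfsg.Agent.H641.Gow

open Cfsg CoxeterSystem Cfsg.Agent.ChevalleyStructure.CoxeterGeom Cfsg.Agent.Tits.Roots Cfsg.Agent.Tits.Core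
  Cfsg.Agent.Tits.Exchange Cfsg.Agent.Nodes.Reps Cfsg.Agent.Nodes.BNOf Cfsg.Agent.Nodes.StabComb
  Cfsg.Agent.Nodes.Bruhat Cfsg.Agent.Nodes.OppDec Cfsg.Agent.Nodes.LeviDec
  Cfsg.Agent.KFacts.RgdField Cfsg.Agent.KFacts.RgdChevCoord Cfsg.Agent.Nodes.RGDChev
open Cfsg.Lie Cfsg.Agent.ChevalleyStructure Cfsg.Agent.ChevalleyStructure.Elts
  Cfsg.Agent.ChevalleyStructure.RootVec Cfsg.Agent.ChevalleyStructure.NPerm
  Cfsg.Agent.ChevalleyStructure.CoxeterGeomTypes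
open Cfsg.Agent.H53.HC (Perm MJ pairing_rep cartan_rep eq_one_of_nonneg Orth)
open Cfsg.Agent.H35.ExcIdx (hpE8 data_E8_4 cartan_two)
open Cfsg.Agent.LieRecognition.BNCox (cA)

universe u

section word

variable {D : ChevalleyDatum} {l : ℕ} {M : CoxeterMatrix (Fin l)} (hp : IsType D l M)
  {W : Type*} [Group W] (cs : CoxeterSystem M W)

/-- the action of a word on the numbers of the roots -/
def wact (D : ChevalleyDatum) {l : ℕ} (ω : List (Fin l)) (r : ℕ) : ℕ := ω.foldr (fun i s => D.reflectRoot i s) r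

include hp in
theorem wact_lt (ω : List (Fin l)) {r : ℕ} (hr : r < D.nroots) : wact D ω r < D.nroots := by
  induction ω with
  | nil => exact hr
  | cons i ω ih => exact reflectRoot_lt hp.inList (lt_rank hp i) ih

theorem rep_word (ω : List (Fin l)) {r : ℕ} (hr : r < D.nroots) :
    rep cs hp.isCartan (cs.wordProd ω) (vec D l r) = vec D l (wact D ω r) := by
  induction ω with
  | nil => rw [wordProd_nil, map_one, Module.End.one_apply]; rfl
  | cons i ω ih =>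
    rw [wordProd_cons, rep_mul_apply, ih, rep_vec hp cs i (wact_lt hp ω hr)]
    rfl

end word

/-- the first chain -/
def kOne : Fin 3 ↪ Fin 8 := ⟨![0, 2, 3], by decide⟩

/-- the second chain -/
def kTwo : Fin 3 ↪ Fin 8 := ⟨![5, 6, 7], by decide⟩

theorem kOne_chain : ∀ i j, CoxeterMatrix.E₈ (kOne i) (kOne j) = cA 3 i j := by
  intro i j
  fin_cases i <;> fin_cases j <;> rfl

theorem kTwo_chain : ∀ i j, CoxeterMatrix.E₈ (kTwo i) (kTwo j) = cA 3 i j := by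
  intro i j
  fin_cases i <;> fin_cases j <;> rfl

/-- `-w_J` -/
def wordU : List (Fin 8) := (List.replicate 15 [0, 1, 2, 3, 4, 5, 6, 7]).flatten ++ [0, 2, 3, 0, 2, 0, 5, 6, 7, 5, 6, 5]

set_option backward.isDefEq.respectTransparency false in
theorem wordU_one : ∀ i : Fin 3, wact chevE8 wordU (chevE8.simple (kOne i)) = chevE8.simple (kOne (Fin.rev i)) := by
  decide +kernel

set_option backward.isDefEq.respectTransparency false in
theorem wordU_two : ∀ i : Fin 3, wact chevE8 wordU (chevE8.simple (kTwo i)) = chevE8.simple (kTwo (Fin.rev i)) := by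
  decide +kernel

set_option backward.isDefEq.respectTransparency false in
theorem stab_four : ∀ r < chevE8.nroots, (∀ j : Fin 8, j ≠ 1 → j ≠ 4 →
    chevE8.cartan j r = chevE8.cartan j (chevE8.simple 4)) → r = chevE8.simple 4 := by
  decide +kernel

set_option backward.isDefEq.respectTransparency false in
theorem stab_one : ∀ r < chevE8.nroots, (∀ j : Fin 8, j ≠ 1 →
    chevE8.cartan j r = chevE8.cartan j (chevE8.simple 1)) → r = chevE8.simple 1 := by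
  decide +kernel

set_option backward.isDefEq.respectTransparency false in
theorem cart_one : cartanOf chevE8 8 (kOne 0) (kOne 0) = 2 ∧ cartanOf chevE8 8 (kOne 1) (kOne 1) = 2 ∧
    cartanOf chevE8 8 (kOne 2) (kOne 2) = 2 ∧
    cartanOf chevE8 8 (kOne 0) (kOne 1) = -1 ∧ cartanOf chevE8 8 (kOne 1) (kOne 0) = -1 ∧
    cartanOf chevE8 8 (kOne 1) (kOne 2) = -1 ∧ cartanOf chevE8 8 (kOne 2) (kOne 1) = -1 ∧
    cartanOf chevE8 8 (kOne 0) (kOne 2) = 0 ∧ cartanOf chevE8 8 (kOne 2) (kOne 0) = 0 := by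
  decide +kernel

set_option backward.isDefEq.respectTransparency false in
theorem cart_two : cartanOf chevE8 8 (kTwo 0) (kTwo 0) = 2 ∧ cartanOf chevE8 8 (kTwo 1) (kTwo 1) = 2 ∧
    cartanOf chevE8 8 (kTwo 2) (kTwo 2) = 2 ∧
    cartanOf chevE8 8 (kTwo 0) (kTwo 1) = -1 ∧ cartanOf chevE8 8 (kTwo 1) (kTwo 0) = -1 ∧
    cartanOf chevE8 8 (kTwo 1) (kTwo 2) = -1 ∧ cartanOf chevE8 8 (kTwo 2) (kTwo 1) = -1 ∧
    cartanOf chevE8 8 (kTwo 0) (kTwo 2) = 0 ∧ cartanOf chevE8 8 (kTwo 2) (kTwo 0) = 0 := by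
  decide +kernel

theorem mem_J (j : Fin 8) : j ∈ Set.range kOne ∪ Set.range kTwo ↔ j ≠ 1 ∧ j ≠ 4 := by
  simp only [Set.mem_union, Set.mem_range]
  revert j
  decide

theorem mem_kOne (j : Fin 8) (hj : j = 0 ∨ j = 2 ∨ j = 3) : ∃ i, kOne i = j := by
  revert j
  decide

set_option backward.isDefEq.respectTransparency false in
theorem orth_kk : ∀ i j : Fin 3, kOne i ≠ kTwo j ∧ cartanOf chevE8 8 (kOne i) (kTwo j) = 0 ∧
    cartanOf chevE8 8 (kTwo j) (kOne i) = 0 := by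
  decide +kernel

set_option synthInstance.maxHeartbeats 400000 in
set_option synthInstance.maxSize 1000 in
set_option backward.isDefEq.respectTransparency false in
theorem chain_two : ∀ j0 j1 j2 : Fin 8, (j0 ≠ 1 ∧ j0 ≠ 4) → (j1 ≠ 1 ∧ j1 ≠ 4) → (j2 ≠ 1 ∧ j2 ≠ 4) →
    cartanOf chevE8 8 j0 j1 = -1 → cartanOf chevE8 8 j1 j2 = -1 → cartanOf chevE8 8 j0 j2 = 0 →
    (j0 = 5 ∧ j1 = 6 ∧ j2 = 7) ∨ (j0 = 7 ∧ j1 = 6 ∧ j2 = 5) ∨
      ((j0 = 0 ∨ j0 = 2 ∨ j0 = 3) ∧ (j1 = 0 ∨ j1 = 2 ∨ j1 = 3) ∧ (j2 = 0 ∨ j2 = 2 ∨ j2 = 3)) := by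
  decide +kernel

set_option backward.isDefEq.respectTransparency false in
theorem chain_one : ∀ j0 j1 j2 : Fin 8, (j0 ≠ 1 ∧ j0 ≠ 4) → (j1 ≠ 1 ∧ j1 ≠ 4) → (j2 ≠ 1 ∧ j2 ≠ 4) →
    (∀ m : Fin 3, cartanOf chevE8 8 j0 (kTwo m) = 0) →
    (∀ m : Fin 3, cartanOf chevE8 8 j1 (kTwo m) = 0) → (∀ m : Fin 3, cartanOf chevE8 8 j2 (kTwo m) = 0) →
    cartanOf chevE8 8 j0 j1 = -1 → cartanOf chevE8 8 j1 j2 = -1 → cartanOf chevE8 8 j0 j2 = 0 →
    (j0 = 0 ∧ j1 = 2 ∧ j2 = 3) ∨ (j0 = 3 ∧ j1 = 2 ∧ j2 = 0) := by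
  decide +kernel

section weyl

variable {W : Type*} [Group W] [Finite W] (cs : CoxeterSystem CoxeterMatrix.E₈ W)

theorem eq_one_of_fix {v : W} (hv : ∀ j ∈ Set.range kOne ∪ Set.range kTwo, rep cs hpE8.isCartan v (sr j) = sr j) :
    v = 1 := by
  have h4 : rep cs hpE8.isCartan v (sr 4) = sr 4 := by
    obtain ⟨r, hr, e⟩ := (isRoot_iff hpE8 cs _).1 ((isRoot_sr cs hpE8.isCartan 4).act v)
    have h5 : r = chevE8.simple 4 := by
      refine stab_four r hr fun j hj1 hj4 => ?_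
      have h6 := pairing_rep (hv j ((mem_J j).2 ⟨hj1, hj4⟩)) (sr 4)
      rw [← e, pairing_vec hpE8 j hr, ← vec_simple hpE8 4, pairing_vec hpE8 j (by decide)] at h6
      exact h6
    rw [← e, h5]
    exact vec_simple hpE8 4
  have h1 : rep cs hpE8.isCartan v (sr 1) = sr 1 := by
    obtain ⟨r, hr, e⟩ := (isRoot_iff hpE8 cs _).1 ((isRoot_sr cs hpE8.isCartan 1).act v)
    have h5 : r = chevE8.simple 1 := by
      refine stab_one r hr fun j hj1 => ?_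
      have hj : rep cs hpE8.isCartan v (sr j) = sr j := by
        by_cases hj4 : j = 4
        · rw [hj4]; exact h4
        · exact hv j ((mem_J j).2 ⟨hj1, hj4⟩)
      have h6 := pairing_rep hj (sr 1)
      rw [← e, pairing_vec hpE8 j hr, ← vec_simple hpE8 1, pairing_vec hpE8 j (by decide)] at h6
      exact h6
    rw [← e, h5]
    exact vec_simple hpE8 1
  refine eq_one_of_nonneg (cs := cs) (h := hpE8.isCartan) fun i => ?_
  have h : rep cs hpE8.isCartan v (sr i) = sr i := by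
    by_cases hi1 : i = 1
    · rw [hi1]; exact h1
    · by_cases hi4 : i = 4
      · rw [hi4]; exact h4
      · exact hv i ((mem_J i).2 ⟨hi1, hi4⟩)
  rw [h]
  exact sr_nonneg i

theorem perm_two (w : W) (hw : Perm cs hpE8.isCartan (Set.range kOne ∪ Set.range kTwo) w) :
    (∀ i, rep cs hpE8.isCartan w (sr (kTwo i)) = sr (kTwo i)) ∨
      (∀ i, rep cs hpE8.isCartan w (sr (kTwo i)) = sr (kTwo (Fin.rev i))) ∨
      ∀ i, ∃ j, rep cs hpE8.isCartan w (sr (kTwo i)) = sr (kOne j) := by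
  obtain ⟨j0, hj0, e0⟩ := hw.2 (kTwo 0) (Or.inr ⟨0, rfl⟩)
  obtain ⟨j1, hj1, e1⟩ := hw.2 (kTwo 1) (Or.inr ⟨1, rfl⟩)
  obtain ⟨j2, hj2, e2⟩ := hw.2 (kTwo 2) (Or.inr ⟨2, rfl⟩)
  obtain ⟨-, -, -, a01, -, a12, -, a02, -⟩ := cart_two
  have c01 := (cartan_rep e0 e1).trans a01
  have c12 := (cartan_rep e1 e2).trans a12
  have c02 := (cartan_rep e0 e2).trans a02
  rcases chain_two j0 j1 j2 ((mem_J _).1 hj0) ((mem_J _).1 hj1) ((mem_J _).1 hj2) c01 c12 c02 with h | h | h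
  · obtain ⟨rfl, rfl, rfl⟩ := h
    left
    intro i
    fin_cases i
    · exact e0
    · exact e1
    · exact e2
  · obtain ⟨rfl, rfl, rfl⟩ := h
    right; left
    intro i
    fin_cases i
    · exact e0
    · exact e1
    · exact e2
  · obtain ⟨h0, h1, h2⟩ := h
    right; right
    obtain ⟨i0, rfl⟩ := mem_kOne _ h0
    obtain ⟨i1, rfl⟩ := mem_kOne _ h1
    obtain ⟨i2, rfl⟩ := mem_kOne _ h2
    intro i
    fin_cases i
    · exact ⟨i0, e0⟩
    · exact ⟨i1, e1⟩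
    · exact ⟨i2, e2⟩

theorem perm_one (w : W) (hw : Perm cs hpE8.isCartan (Set.range kOne ∪ Set.range kTwo) w)
    (hf : ∀ i, rep cs hpE8.isCartan w (sr (kTwo i)) = sr (kTwo i)) :
    (∀ i, rep cs hpE8.isCartan w (sr (kOne i)) = sr (kOne i)) ∨
      ∀ i, rep cs hpE8.isCartan w (sr (kOne i)) = sr (kOne (Fin.rev i)) := by
  obtain ⟨j0, hj0, e0⟩ := hw.2 (kOne 0) (Or.inl ⟨0, rfl⟩)
  obtain ⟨j1, hj1, e1⟩ := hw.2 (kOne 1) (Or.inl ⟨1, rfl⟩)
  obtain ⟨j2, hj2, e2⟩ := hw.2 (kOne 2) (Or.inl ⟨2, rfl⟩)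
  obtain ⟨-, -, -, a01, -, a12, -, a02, -⟩ := cart_one
  have c01 := (cartan_rep e0 e1).trans a01
  have c12 := (cartan_rep e1 e2).trans a12
  have c02 := (cartan_rep e0 e2).trans a02
  have d0 : ∀ m : Fin 3, cartanOf chevE8 8 j0 (kTwo m) = 0 := fun m => (cartan_rep e0 (hf m)).trans (orth_kk 0 m).2.1
  have d1 : ∀ m : Fin 3, cartanOf chevE8 8 j1 (kTwo m) = 0 := fun m => (cartan_rep e1 (hf m)).trans (orth_kk 1 m).2.1
  have d2 : ∀ m : Fin 3, cartanOf chevE8 8 j2 (kTwo m) = 0 := fun m => (cartan_rep e2 (hf m)).trans (orth_kk 2 m).2.1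
  rcases chain_one j0 j1 j2 ((mem_J _).1 hj0) ((mem_J _).1 hj1) ((mem_J _).1 hj2) d0 d1 d2 c01 c12 c02 with h | h
  · obtain ⟨rfl, rfl, rfl⟩ := h
    left
    intro i
    fin_cases i
    · exact e0
    · exact e1
    · exact e2
  · obtain ⟨rfl, rfl, rfl⟩ := h
    right
    intro i
    fin_cases i
    · exact e0
    · exact e1
    · exact e2

theorem count : {w | Perm cs hpE8.isCartan (Set.range kOne ∪ Set.range kTwo) w ∧
    ∀ i, rep cs hpE8.isCartan w (sr (kTwo i)) = sr (kTwo i)}.ncard ≤ 2 := by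
  have hsub : {w | Perm cs hpE8.isCartan (Set.range kOne ∪ Set.range kTwo) w ∧
      ∀ i, rep cs hpE8.isCartan w (sr (kTwo i)) = sr (kTwo i)} ⊆
      {w | (∀ i, rep cs hpE8.isCartan w (sr (kTwo i)) = sr (kTwo i)) ∧
        ∀ i, rep cs hpE8.isCartan w (sr (kOne i)) = sr (kOne i)} ∪
      {w | (∀ i, rep cs hpE8.isCartan w (sr (kTwo i)) = sr (kTwo i)) ∧
        ∀ i, rep cs hpE8.isCartan w (sr (kOne i)) = sr (kOne (Fin.rev i))} := by
    rintro w ⟨hw, hf⟩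
    rcases perm_one cs w hw hf with h | h
    · exact Or.inl ⟨hf, h⟩
    · exact Or.inr ⟨hf, h⟩
  have key : ∀ (σ : Fin 3 → Fin 3), {w | (∀ i, rep cs hpE8.isCartan w (sr (kTwo i)) = sr (kTwo i)) ∧
        ∀ i, rep cs hpE8.isCartan w (sr (kOne i)) = sr (kOne (σ i))}.ncard ≤ 1 := by
    intro σ
    rw [Set.ncard_le_one_iff (Set.toFinite _)]
    rintro v w ⟨hv1, hv2⟩ ⟨hw1, hw2⟩
    have h1 : v⁻¹ * w = 1 := by
      refine eq_one_of_fix cs fun j hj => ?_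
      rw [rep_mul_apply]
      rcases hj with ⟨i, rfl⟩ | ⟨i, rfl⟩
      · rw [hw2, ← hv2, ← rep_mul_apply, inv_mul_cancel, map_one]; rfl
      · rw [hw1]
        conv_lhs => rw [← hv1 i]
        rw [← rep_mul_apply, inv_mul_cancel, map_one]; rfl
    exact inv_mul_eq_one.1 h1
  refine le_trans (Set.ncard_le_ncard hsub (Set.toFinite _)) (le_trans (Set.ncard_union_le _ _) ?_)
  exact Nat.add_le_add (key id) (key Fin.rev)

theorem exists_u : ∃ u, Perm cs hpE8.isCartan (Set.range kOne ∪ Set.range kTwo) u ∧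
    (∀ i, rep cs hpE8.isCartan u (sr (kOne i)) = sr (kOne (Fin.rev i))) ∧
      ∀ i, rep cs hpE8.isCartan u (sr (kTwo i)) = sr (kTwo (Fin.rev i)) := by
  have h1 : ∀ i, rep cs hpE8.isCartan (cs.wordProd wordU) (sr (kOne i)) = sr (kOne (Fin.rev i)) := by
    intro i
    have hlt : chevE8.simple (kOne i) < chevE8.nroots := by revert i; decide
    rw [← vec_simple hpE8 (kOne i), rep_word hpE8 cs wordU hlt, wordU_one i]
    exact vec_simple hpE8 _
  have h2 : ∀ i, rep cs hpE8.isCartan (cs.wordProd wordU) (sr (kTwo i)) = sr (kTwo (Fin.rev i)) := by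
    intro i
    have hlt : chevE8.simple (kTwo i) < chevE8.nroots := by revert i; decide
    rw [← vec_simple hpE8 (kTwo i), rep_word hpE8 cs wordU hlt, wordU_two i]
    exact vec_simple hpE8 _
  refine ⟨cs.wordProd wordU, ⟨?_, ?_⟩, h1, h2⟩
  · rintro _ (⟨i, rfl⟩ | ⟨i, rfl⟩)
    · refine ⟨_, Or.inl ⟨Fin.rev i, rfl⟩, ?_⟩
      have := h1 (Fin.rev i)
      rw [Fin.rev_rev] at this
      rw [← this, ← rep_mul_apply, inv_mul_cancel, map_one]; rfl
    · refine ⟨_, Or.inr ⟨Fin.rev i, rfl⟩, ?_⟩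
      have := h2 (Fin.rev i)
      rw [Fin.rev_rev] at this
      rw [← this, ← rep_mul_apply, inv_mul_cancel, map_one]; rfl
  · rintro _ (⟨i, rfl⟩ | ⟨i, rfl⟩)
    · exact ⟨_, Or.inl ⟨_, rfl⟩, h1 i⟩
    · exact ⟨_, Or.inr ⟨_, rfl⟩, h2 i⟩

end weyl

/-- **The row `E₈(q)`, `q ≡ 2 (mod 3)`.** -/
theorem e_eight_two (F : Type u) [Field F] [Fintype F] [CharP F 2] (h3 : ¬ 3 ∣ Fintype.card F - 1) :
    Cfsg.Agent.H636.Gow.RatOdd ↥(Lie.chevE8.group F) := by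
  classical
  have : Fact (Nat.Prime 2) := ⟨Nat.prime_two⟩
  let cs : CoxeterSystem CoxeterMatrix.E₈ CoxeterMatrix.E₈.Group := CoxeterMatrix.E₈.toCoxeterSystem
  have := finite_W hpE8 cs
  obtain ⟨f, -, hf⟩ := FiniteField.card F 2
  have hodd : (f : ℕ) % 2 = 1 := by
    by_contra hcon
    apply h3
    obtain ⟨m, hm⟩ : ∃ m, (f : ℕ) = 2 * m := ⟨f / 2, by omega⟩
    rw [hf, hm, pow_mul]
    have h4 : (2 ^ 2) ^ m % 3 = 1 := by
      rw [Nat.pow_mod]
      norm_num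
    have h5 : 1 ≤ (2 ^ 2) ^ m := Nat.one_le_pow _ _ (by norm_num)
    omega
  have R : RGD cs hpE8.isCartan 2 (TT chevE8 F) (nc hpE8 F) (XX chevE8 8 F) := rgd (K := F) hpE8 cs 2
  have hfin : Finite ↥(chevE8.group F) := inferInstance
  have hft : Fintype ↥(chevE8.group F) := Fintype.ofFinite _
  have hG : GG cs hpE8.isCartan (TT chevE8 F) (XX chevE8 8 F) = ⊤ := Cfsg.Agent.BpExc.TorChev.GG_top hpE8 cs
  have hq : ∀ i, Nat.card (XX chevE8 8 F (sr i)) = 2 ^ (f : ℕ) := fun i => by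
    rw [Cfsg.Agent.H35.ExcIdx.card_XX hpE8 F cs (isRoot_sr _ _ i), Nat.card_eq_fintype_card, hf]
  obtain ⟨⟨θ₁, h₁, hre⟩, -⟩ := exists_comps R kOne_chain hodd (hq _)
  obtain ⟨-, θ₂, h₂, hne⟩ := exists_comps R kTwo_chain hodd (hq _)
  refine ratOdd_pair R hG ?_ h₁ h₂ hre hne (inner_chain hpE8 cs kOne cart_one) (inner_chain hpE8 cs kTwo cart_two)
    (odd_index R hG _) (perm_two cs) (exists_u cs) (count cs)
  rintro _ ⟨i, rfl⟩ _ ⟨j, rfl⟩
  exact orth_kk i j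

/-- **The row `E₈(q)`, `q` even.** -/
theorem e_eight (F : Type u) [Field F] [Fintype F] [CharP F 2] :
    Cfsg.Agent.H636.Gow.RatOdd ↥(Lie.chevE8.group F) := by
  by_cases h3 : 3 ∣ Fintype.card F - 1
  · exact Cfsg.Agent.H650.GowChev.ratOdd_one_mod h3 chevE8 (by simp)
  · exact e_eight_two F h3

end Cfsg.Agent.H641.Gow
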