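import Cfsg.Agent.H636.Gow.CuspSL
import Cfsg.Agent.H622.Levi.Constit

/-!
# Cuspidal characters of `SL_4(q)` with small Galois orbits, `q = 2 ^ f`, `f` odd (S4913, helper641)

* `PrimTheta l θ` : `θ : L →*₀ ℂ` of order `l` (not necessarily prime);
* `CuspFour F μ` : a cuspidal character of `SL_4(F)` with `σ μ ∈ {μ, conj μ}`, invariant under semilinear maps,
  conjugated by the inverse transpose;
* `exists_five` : a real one, `exists_fifteen` : a non-real one.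
-/

set_option autoImplicit false

open Cfsg
open scoped ComplexConjugate MatrixGroups

namespace Cfsg.Agent.H641.Gow

open Cfsg.Agent.H139.Cusp Cfsg.Agent.Characters Cfsg.Agent.H636.Gow.CuspSL
open Cfsg.Agent.H622.Levi (UU sum_UU)

universe u v w

section prim

/-- `θ` has order `l` -/
structure PrimTheta {L : Type w} [Field L] (l : ℕ) (θ : L →*₀ ℂ) : Prop where
  pow : ∀ x : L, x ≠ 0 → θ x ^ l = 1
  prim : ∃ x : L, x ≠ 0 ∧ IsPrimitiveRoot (θ x) l

theorem exists_primTheta (L : Type w) [Field L] [Finite L] {l : ℕ} (hl : 1 < l) (hd : l ∣ Nat.card L - 1) :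
    ∃ θ : L →*₀ ℂ, PrimTheta l θ := by
  obtain ⟨θ₀, hθ₀⟩ := exists_theta L
  obtain ⟨a, ha⟩ := hd
  have hL : 1 < Nat.card L := Finite.one_lt_card
  have ha0 : a ≠ 0 := by
    rintro rfl
    omega
  have hcard : Nat.card Lˣ = l * a := by rw [Nat.card_units, ha]
  refine ⟨powTheta θ₀ a ha0, fun x hx => ?_, ?_⟩
  · rw [powTheta_apply, ← pow_mul, mul_comm a l, ← hcard, ← map_pow]
    have h3 : (Units.mk0 x hx) ^ Nat.card Lˣ = 1 := pow_card_eq_one'
    have h4 : x ^ Nat.card Lˣ = 1 := congrArg Units.val h3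
    rw [h4, map_one]
  · obtain ⟨γ, hγ⟩ := IsCyclic.exists_ofOrder_eq_natCard (α := Lˣ)
    refine ⟨γ, γ.ne_zero, ?_⟩
    rw [powTheta_apply]
    have h1 : IsPrimitiveRoot γ (a * l) := by
      rw [mul_comm a l, ← hcard, ← hγ]
      exact IsPrimitiveRoot.orderOf γ
    have h2 : IsPrimitiveRoot ((γ : Lˣ) : L) (a * l) := h1.map_of_injective (f := Units.coeHom L) Units.val_injective
    have h3 : IsPrimitiveRoot (θ₀ ((γ : Lˣ) : L)) (a * l) := h2.map_of_injective (f := θ₀) hθ₀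
    exact h3.pow (Nat.mul_pos (Nat.pos_of_ne_zero ha0) (by omega)) rfl

variable {L : Type w} [Field L] {l : ℕ} {θ : L →*₀ ℂ}

theorem PrimTheta.ord (h : PrimTheta l θ) (hl : 1 < l) : OrdTheta l θ := by
  obtain ⟨x, hx, h1⟩ := h.prim
  exact ⟨h.pow, x, hx, h1.ne_one hl⟩

theorem PrimTheta.map (h : PrimTheta l θ) (hl : 1 < l) (σ : ℂ →+* ℂ) :
    ∃ k : ℕ, k.Coprime l ∧ ∀ x : L, σ (θ x) = θ x ^ k := by
  obtain ⟨x₀, hx₀, hprim⟩ := h.prim
  have hnz : NeZero l := ⟨by omega⟩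
  have h1 : IsPrimitiveRoot (σ (θ x₀)) l := hprim.map_of_injective σ.injective
  obtain ⟨k, -, hk⟩ := hprim.eq_pow_of_pow_eq_one h1.pow_eq_one
  have hcop : k.Coprime l := by
    rw [← hk] at h1
    exact (hprim.pow_iff_coprime (by omega) k).1 h1
  refine ⟨k, hcop, fun x => ?_⟩
  by_cases hx : x = 0
  · rw [hx, map_zero, map_zero, zero_pow]
    rintro rfl
    rw [Nat.coprime_zero_left] at hcop
    omega
  · obtain ⟨j, -, hj⟩ := hprim.eq_pow_of_pow_eq_one (h.pow x hx)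
    rw [← hj, map_pow, ← hk, ← pow_mul, ← pow_mul, mul_comm]

theorem PrimTheta.regular (h : PrimTheta l θ) (F : Type u) [Field F] [Finite F] {n : ℕ}
    (hi : ∀ i, 0 < i → i < n → ¬ l ∣ Nat.card F ^ i - 1) : Regular F n θ := by
  intro i h0 h1
  obtain ⟨x, hx, hx1⟩ := h.prim
  refine ⟨x, fun h2 => hi i h0 h1 ?_⟩
  have hq : 1 ≤ Nat.card F ^ i := Nat.one_le_pow _ _ Nat.card_pos
  have h3 : θ x ^ (Nat.card F ^ i - 1) = 1 := by
    have h4 : θ x ^ (Nat.card F ^ i - 1) * θ x = 1 * θ x := by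
      rw [← pow_succ, Nat.sub_add_cancel hq, ← map_pow, ← h2, one_mul]
    exact mul_right_cancel₀ ((map_ne_zero θ).2 hx) h4
  exact hx1.dvd_of_pow_eq_one _ h3

theorem PrimTheta.scalar (h : PrimTheta l θ) {F : Type u} [Field F] [Finite F] [Algebra F L]
    (hi : l.Coprime (Nat.card F - 1)) {c : F} (hc : c ≠ 0) : θ (algebraMap F L c) = 1 := by
  have hc' : algebraMap F L c ≠ 0 := (map_ne_zero_iff _ (algebraMap F L).injective).2 hc
  have h1 : (Units.mk0 c hc) ^ (Nat.card F - 1) = 1 := by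
    rw [← Nat.card_units]
    exact pow_card_eq_one'
  have h2 : c ^ (Nat.card F - 1) = 1 := congrArg Units.val h1
  have h3 : θ (algebraMap F L c) ^ (Nat.card F - 1) = 1 := by
    rw [← map_pow, ← map_pow, h2, map_one, map_one]
  have h4 := orderOf_dvd_of_pow_eq_one (h.pow _ hc')
  have h5 := orderOf_dvd_of_pow_eq_one h3
  have h6 := Nat.dvd_gcd h4 h5
  rw [hi] at h6
  exact orderOf_eq_one_iff.1 (Nat.dvd_one.1 h6)

variable {F : Type u} [Field F] [Finite F] [Finite L] [Algebra F L] {n : ℕ}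

theorem PrimTheta.sl_eq_of_pow (h : PrimTheta l θ) (hl : 1 < l) (hn : Module.finrank F L = n)
    (hreg : ∀ i, 0 < i → i < n → ¬ l ∣ Nat.card F ^ i - 1) {θ' : L →*₀ ℂ} {k i : ℕ} (hk : k ≠ 0)
    (hθ' : ∀ x, θ' x = θ x ^ k) (hi : i < n) (hki : k ≡ Nat.card F ^ i [MOD l]) (g : SL(n, F)) :
    sl L θ' g = sl L θ g := by
  refine sl_frob hn (h.regular F hreg) hi (fun x => ?_) g
  rw [hθ', map_pow]
  exact (h.ord hl).pow_congr hk (pow_ne_zero _ Nat.card_pos.ne') hki x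

theorem PrimTheta.sl_eq_conj_of_pow (h : PrimTheta l θ) (hl : 1 < l) (hn : Module.finrank F L = n)
    (hreg : ∀ i, 0 < i → i < n → ¬ l ∣ Nat.card F ^ i - 1) {θ' : L →*₀ ℂ} {k i : ℕ} (hk : k ≠ 0)
    (hθ' : ∀ x, θ' x = θ x ^ k) (hi : i < n) (hki : l ∣ k + Nat.card F ^ i) (g : SL(n, F)) :
    sl L θ' g = conj (sl L θ g) := by
  have h1 : conj (sl L θ' g) = sl L θ g := by
    rw [sl_star]
    refine sl_frob hn (h.regular F hreg) hi (fun x => ?_) g
    rw [conjTheta_apply, hθ', map_pow, map_pow]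
    exact (h.ord hl).conj_eq (pow_ne_zero _ Nat.card_pos.ne') hk hki x
  rw [← h1, Complex.conj_conj]

theorem PrimTheta.sl_isIrr (h : PrimTheta l θ) (hn : Module.finrank F L = n) (hcop : n.Coprime (Nat.card F - 1))
    (hl1 : l.Coprime (Nat.card F - 1)) (hreg : ∀ i, 0 < i → i < n → ¬ l ∣ Nat.card F ^ i - 1) :
    IsIrrCharacter SL(n, F) (sl L θ) :=
  H636.Gow.CuspSL.sl_isIrr hn hcop (h.regular F hreg) fun _ hc => h.scalar hl1 hc

/-- field automorphisms, if all powers of two are powers of `q` modulo `l` -/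
theorem PrimTheta.sl_field [CharP F 2] (h : PrimTheta l θ) (hl : 1 < l) (hn : Module.finrank F L = n)
    (hreg : ∀ i, 0 < i → i < n → ¬ l ∣ Nat.card F ^ i - 1)
    (hpow : ∀ j, ∃ i < n, 2 ^ j * Nat.card F ^ i ≡ 1 [MOD l]) (σ : F ≃+* F) {g g' : SL(n, F)}
    (hg : ∀ i j, (g' : Matrix (Fin n) (Fin n) F) i j = σ ((g : Matrix (Fin n) (Fin n) F) i j)) :
    sl L θ g' = sl L θ g := by
  have hL2 : CharP L 2 := charP_of_injective_algebraMap (algebraMap F L).injective 2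
  obtain ⟨j, hj⟩ := exists_frob_pow σ
  obtain ⟨τ, hτ⟩ := exists_frobAut L j
  obtain ⟨i, hi, hij⟩ := hpow j
  let θ' : L →*₀ ℂ := θ.comp (τ.symm : L →+* L).toMonoidWithZeroHom
  have hθ' : ∀ x, θ' (τ x) = θ x := fun x => congrArg θ (τ.symm_apply_apply x)
  have h1 : sl L θ' g' = sl L θ g := by
    refine sl_fieldAut hn σ τ (fun c => ?_) hθ' hg
    rw [hτ, hj, map_pow]
  rw [← h1]
  symm
  refine sl_frob hn (h.regular F hreg) hi (fun x => ?_) g'
  obtain ⟨y, rfl⟩ := τ.surjective x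
  rw [hθ', hτ, ← pow_mul, map_pow]
  have hq : Nat.card F ^ i ≠ 0 := pow_ne_zero _ Nat.card_pos.ne'
  rw [(h.ord hl).pow_congr (mul_ne_zero (pow_ne_zero _ two_ne_zero) hq) one_ne_zero hij, pow_one]

/-- two conjugate maps are Frobenius conjugate if the class functions on `SL_n` agree -/
theorem PrimTheta.conj_ne (h : PrimTheta l θ) (hn : Module.finrank F L = n) (hcop : n.Coprime (Nat.card F - 1))
    (hl1 : l.Coprime (Nat.card F - 1)) (hreg : ∀ i, 0 < i → i < n → ¬ l ∣ Nat.card F ^ i - 1)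
    (hneg : ∀ i < n, ¬ l ∣ Nat.card F ^ i + 1) : ∃ g : SL(n, F), conj (sl L θ g) ≠ sl L θ g := by
  by_contra hcon
  push Not at hcon
  have hF : ∀ c : F, c ≠ 0 → θ (algebraMap F L c) = 1 := fun c hc => h.scalar hl1 hc
  have hF' : ∀ c : F, c ≠ 0 → conjTheta θ (algebraMap F L c) = 1 := by
    intro c hc
    rw [conjTheta_apply, hF c hc, map_one]
  have h1 : ∀ g : GL (Fin n) F, psi L θ g = psi L (conjTheta θ) g := by
    intro g
    obtain ⟨p, rfl⟩ := mulHom_surjective hcop g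
    rw [sl_mulHom hn hF, sl_mulHom hn hF', ← sl_star, hcon]
  have hfr : Module.finrank F (Fin n → F) = Module.finrank F L := by rw [Module.finrank_fin_fun, hn]
  obtain ⟨i, hi, h2⟩ := (cusp_eq_iff (V := Fin n → F) θ (conjTheta θ) hfr
    (hn.symm ▸ h.regular F hreg)).1 (fun g => by
      have h3 := h1 (Matrix.GeneralLinearGroup.toLin.symm g)
      have h4 : Matrix.toLin' ((Matrix.GeneralLinearGroup.toLin.symm g : GL (Fin n) F) :
          Matrix (Fin n) (Fin n) F) = (g : (Fin n → F) →ₗ[F] (Fin n → F)) := by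
        have h5 := Matrix.GeneralLinearGroup.toLin.apply_symm_apply g
        exact congrArg Units.val h5
      rw [psi, psi, cuspMat, cuspMat, h4] at h3
      exact h3)
  obtain ⟨x, hx, hx1⟩ := h.prim
  have h3 := h2 x
  rw [conjTheta_apply, conj_theta_eq, map_inv₀, map_pow] at h3
  have h4 : θ x ^ (Nat.card F ^ i + 1) = 1 := by
    rw [pow_succ, ← h3, inv_mul_cancel₀ ((map_ne_zero θ).2 hx)]
  rw [hn] at hi
  exact hneg i hi (hx1.dvd_of_pow_eq_one _ h4)

end prim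

/-- a cuspidal character of `SL_4(q)` with at most two Galois conjugates -/
structure CuspFour (F : Type u) [Field F] [Finite F] (μ : SL(4, F) → ℂ) : Prop where
  irr : IsIrrCharacter SL(4, F) μ
  one : μ 1 = (((Nat.card F - 1) * (Nat.card F ^ 2 - 1) * (Nat.card F ^ 3 - 1) : ℕ) : ℂ)
  sum : ∀ i : Fin 3, ∀ [Fintype (UU F i)], ∑ g : UU F i, μ g = 0
  glConj : ∀ (h : GL (Fin 4) F) (g g' : SL(4, F)),
    (g' : Matrix (Fin 4) (Fin 4) F) * (h : Matrix (Fin 4) (Fin 4) F) = (h : Matrix (Fin 4) (Fin 4) F) * g → μ g' = μ g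
  field : ∀ (σ : F ≃+* F) (g g' : SL(4, F)),
    (∀ i j, (g' : Matrix (Fin 4) (Fin 4) F) i j = σ ((g : Matrix (Fin 4) (Fin 4) F) i j)) → μ g' = μ g
  contra : ∀ g g' : SL(4, F),
    (g' : Matrix (Fin 4) (Fin 4) F) * (g : Matrix (Fin 4) (Fin 4) F).transpose = 1 → μ g' = conj (μ g)
  galois : ∀ τ : ℂ ≃+* ℂ, (∀ g, τ (μ g) = μ g) ∨ (∀ g, τ (μ g) = conj (μ g))

theorem two_pow_mod (f : ℕ) (hf : f % 2 = 1) : 2 ^ f % 15 = 2 ∨ 2 ^ f % 15 = 8 := by
  obtain ⟨k, rfl⟩ : ∃ k, f = 2 * k + 1 := ⟨f / 2, by omega⟩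
  clear hf
  induction k with
  | zero => left; rfl
  | succ k ih =>
    have e : 2 ^ (2 * (k + 1) + 1) = 4 * 2 ^ (2 * k + 1) := by ring
    rw [e]
    omega

theorem two_pow_mod' (f : ℕ) : 2 ^ f % 15 = 1 ∨ 2 ^ f % 15 = 2 ∨ 2 ^ f % 15 = 4 ∨ 2 ^ f % 15 = 8 := by
  induction f with
  | zero => left; rfl
  | succ k ih => rw [pow_succ]; omega

section exist

variable (F : Type u) [Field F] [Finite F] [CharP F 2]

set_option maxHeartbeats 1000000 in
/-- the common part -/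
theorem exists_common {f : ℕ} (hf : Nat.card F = 2 ^ f) (hodd : f % 2 = 1) {l : ℕ} (hl : 1 < l)
    (hl15 : l ∣ 15) (hr : ∀ r : ℕ, r = 2 ∨ r = 4 ∨ r = 8 → r % l ≠ 1)
    (hk : ∀ k : ℕ, k.Coprime l → ∃ r : ℕ, (r = 1 ∨ r = 2 ∨ r = 4 ∨ r = 8) ∧ (k ≡ r [MOD l] ∨ l ∣ k + r)) :
    ∃ (L : Type) (_ : Field L) (_ : Algebra F L) (_ : Finite L) (θ : L →*₀ ℂ),
      Module.finrank F L = 4 ∧ PrimTheta l θ ∧ CuspFour F (sl (n := 4) (F := F) L θ) ∧
      (∀ i, 0 < i → i < 4 → ¬ l ∣ Nat.card F ^ i - 1) ∧ l.Coprime (Nat.card F - 1) ∧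
      Nat.Coprime 4 (Nat.card F - 1) ∧
      (∀ r : ℕ, r = 1 ∨ r = 2 ∨ r = 4 ∨ r = 8 → ∃ i < 4, Nat.card F ^ i % 15 = r) ∧
      (∀ i, Nat.card F ^ i % 15 = 1 ∨ Nat.card F ^ i % 15 = 2 ∨ Nat.card F ^ i % 15 = 4 ∨
        Nat.card F ^ i % 15 = 8) := by
  have : Fact (Nat.Prime 2) := ⟨Nat.prime_two⟩
  have hnz : NeZero 4 := ⟨four_ne_zero⟩
  have hq1 : 1 < Nat.card F := Finite.one_lt_card
  have hq15 : Nat.card F % 15 = 2 ∨ Nat.card F % 15 = 8 := by
    rw [hf]; exact two_pow_mod f hodd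
  obtain ⟨L, _, _, _, hn, hL⟩ : ∃ (L : Type) (_ : Field L) (_ : Algebra F L) (_ : Finite L),
      Module.finrank F L = 4 ∧ Nat.card L = Nat.card F ^ 4 :=
    ⟨FiniteField.Extension F 2 4, inferInstance, inferInstance, inferInstance,
      FiniteField.finrank_extension F 2 4, FiniteField.natCard_extension F 2 4⟩
  have hpm : ∀ i, Nat.card F ^ i % 15 = (Nat.card F % 15) ^ i % 15 := fun i => Nat.pow_mod _ _ _
  have hd15 : 15 ∣ Nat.card L - 1 := by
    rw [hL]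
    have h1 : Nat.card F ^ 4 % 15 = 1 := by
      rw [hpm]
      rcases hq15 with h | h <;> rw [h] <;> rfl
    have h2 := Nat.one_le_pow 4 _ (by omega : 0 < Nat.card F)
    omega
  obtain ⟨θ, hθ⟩ := exists_primTheta L hl (hl15.trans hd15)
  have hres : ∀ r : ℕ, r = 1 ∨ r = 2 ∨ r = 4 ∨ r = 8 → ∃ i < 4, Nat.card F ^ i % 15 = r := by
    intro r hr
    rcases hq15 with h | h
    · rcases hr with rfl | rfl | rfl | rfl
      · exact ⟨0, by norm_num, by norm_num⟩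
      · exact ⟨1, by norm_num, by rw [hpm, h]; rfl⟩
      · exact ⟨2, by norm_num, by rw [hpm, h]; rfl⟩
      · exact ⟨3, by norm_num, by rw [hpm, h]; rfl⟩
    · rcases hr with rfl | rfl | rfl | rfl
      · exact ⟨0, by norm_num, by norm_num⟩
      · exact ⟨3, by norm_num, by rw [hpm, h]; rfl⟩
      · exact ⟨2, by norm_num, by rw [hpm, h]; rfl⟩
      · exact ⟨1, by norm_num, by rw [hpm, h]; rfl⟩
  have hres' : ∀ i, Nat.card F ^ i % 15 = 1 ∨ Nat.card F ^ i % 15 = 2 ∨ Nat.card F ^ i % 15 = 4 ∨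
      Nat.card F ^ i % 15 = 8 := by
    intro i
    rw [hf, ← pow_mul]
    exact two_pow_mod' _
  have hmodl : ∀ a b : ℕ, a % 15 = b → a ≡ b [MOD l] := by
    intro a b h
    refine Nat.ModEq.of_dvd hl15 ?_
    rw [← h]
    exact (Nat.mod_modEq a 15).symm
  have hreg : ∀ i, 0 < i → i < 4 → ¬ l ∣ Nat.card F ^ i - 1 := by
    intro i hi hi4 hdvd
    have h1 := Nat.one_le_pow i _ (by omega : 0 < Nat.card F)
    have h2 : Nat.card F ^ i ≡ 1 [MOD l] := ((Nat.modEq_iff_dvd' h1).2 hdvd).symm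
    have h3 : Nat.card F ^ i % 15 = 2 ∨ Nat.card F ^ i % 15 = 4 ∨ Nat.card F ^ i % 15 = 8 := by
      rw [hpm]
      rcases (by omega : i = 1 ∨ i = 2 ∨ i = 3) with rfl | rfl | rfl <;> rcases hq15 with h | h <;> rw [h] <;> decide
    have h4 := (hmodl _ _ rfl).symm.trans h2
    refine hr _ h3 ?_
    rw [h4, Nat.mod_eq_of_lt hl]
  have hcop : Nat.Coprime 4 (Nat.card F - 1) := by
    have h2 : Nat.Coprime 2 (Nat.card F - 1) := by
      rw [Nat.coprime_two_left, hf]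
      obtain ⟨m, rfl⟩ : ∃ m, f = m + 1 := ⟨f - 1, by omega⟩
      have := Nat.one_le_pow m 2 (by norm_num)
      exact ⟨2 ^ m - 1, by rw [pow_succ]; omega⟩
    exact Nat.Coprime.pow_left 2 h2
  have hl1 : l.Coprime (Nat.card F - 1) := by
    refine Nat.Coprime.coprime_dvd_left hl15 ?_
    have h3 : ¬ 3 ∣ Nat.card F - 1 := by omega
    have h5 : ¬ 5 ∣ Nat.card F - 1 := by omega
    have e : 15 = 3 * 5 := rfl
    rw [e]
    exact Nat.Coprime.mul_left ((Nat.Prime.coprime_iff_not_dvd Nat.prime_three).2 h3)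
      ((Nat.Prime.coprime_iff_not_dvd Nat.prime_five).2 h5)
  have hirr := hθ.sl_isIrr hn hcop hl1 hreg
  refine ⟨L, inferInstance, inferInstance, inferInstance, θ, hn, hθ, ⟨hirr, ?_, fun i _ => ?_, fun h g g' hg => sl_conj L θ h hg,
    fun σ g g' hg => ?_, fun g g' hg => sl_contra hn hg, fun σ => ?_⟩, hreg, hl1, hcop, hres, hres'⟩
  · rw [sl_one L θ (by norm_num), degP]
    simp only [Nat.reduceSub, Finset.prod_range_succ, Finset.prod_range_zero, zero_add, pow_one, one_mul,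
      Nat.reduceAdd]
  · exact sum_UU (psi_isClass L θ) (psi_isCusp L θ) i
  · refine hθ.sl_field hl hn hreg (fun j => ?_) σ hg
    have key : ∃ i < 4, 2 ^ j % 15 * (Nat.card F ^ i % 15) % 15 = 1 := by
      rcases two_pow_mod' j with h | h | h | h
      · obtain ⟨i, hi, hi7⟩ := hres 1 (by norm_num)
        exact ⟨i, hi, by rw [h, hi7]⟩
      · obtain ⟨i, hi, hi7⟩ := hres 8 (by norm_num)
        exact ⟨i, hi, by rw [h, hi7]⟩
      · obtain ⟨i, hi, hi7⟩ := hres 4 (by norm_num)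
        exact ⟨i, hi, by rw [h, hi7]⟩
      · obtain ⟨i, hi, hi7⟩ := hres 2 (by norm_num)
        exact ⟨i, hi, by rw [h, hi7]⟩
    obtain ⟨i, hi, h⟩ := key
    exact ⟨i, hi, hmodl _ _ (by rw [Nat.mul_mod, h])⟩
  · obtain ⟨k, hkc, hσ⟩ := hθ.map hl (σ : ℂ →+* ℂ)
    have hk0 : k ≠ 0 := by
      rintro rfl
      rw [Nat.coprime_zero_left] at hkc
      omega
    have h1 : ∀ g : SL(4, F), σ (sl L θ g) = sl L (mapTheta (σ : ℂ →+* ℂ) θ) g :=
      fun g => sl_galois L θ (σ : ℂ →+* ℂ) g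
    obtain ⟨r, hr1, hr2⟩ := hk k hkc
    obtain ⟨i, hi, hir⟩ := hres r hr1
    have hir' := hmodl _ _ hir
    rcases hr2 with hr2 | hr2
    · left
      intro g
      rw [h1]
      exact hθ.sl_eq_of_pow hl hn hreg (k := k) (i := i) hk0 hσ hi (hr2.trans hir'.symm) g
    · right
      intro g
      rw [h1]
      refine hθ.sl_eq_conj_of_pow hl hn hreg (k := k) (i := i) hk0 hσ hi ?_ g
      have h2 : k + Nat.card F ^ i ≡ k + r [MOD l] := Nat.ModEq.add_left k hir'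
      exact (Nat.modEq_zero_iff_dvd.1 (h2.trans (Nat.modEq_zero_iff_dvd.2 hr2)))

/-- **a rational one** -/
theorem exists_five {f : ℕ} (hf : Nat.card F = 2 ^ f) (hodd : f % 2 = 1) :
    ∃ μ : SL(4, F) → ℂ, CuspFour F μ ∧ ∀ g, conj (μ g) = μ g := by
  obtain ⟨L, _, _, _, θ, hn, hθ, hc, hreg, -, -, hres, -⟩ := exists_common F hf hodd (l := 5) (by norm_num)
    (by norm_num) (by rintro r (rfl | rfl | rfl) <;> decide) (by
      intro k hk
      have hk5 : k % 5 ≠ 0 := by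
        intro h0
        have := Nat.dvd_of_mod_eq_zero h0
        rw [Nat.coprime_comm, Nat.Prime.coprime_iff_not_dvd Nat.prime_five] at hk
        exact hk this
      rcases (by omega : k % 5 = 1 ∨ k % 5 = 2 ∨ k % 5 = 3 ∨ k % 5 = 4) with h | h | h | h
      · exact ⟨1, by norm_num, Or.inl h⟩
      · exact ⟨2, by norm_num, Or.inl h⟩
      · exact ⟨8, by norm_num, Or.inl h⟩
      · exact ⟨4, by norm_num, Or.inl h⟩)
  refine ⟨sl L θ, hc, fun g => ?_⟩
  obtain ⟨i, hi, h4⟩ := hres 4 (by norm_num)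
  symm
  refine hθ.sl_eq_conj_of_pow (by norm_num) hn hreg (θ' := θ) (k := 1) (i := i) one_ne_zero
    (fun x => (pow_one _).symm) hi ?_ g
  omega

/-- **a non-real one** -/
theorem exists_fifteen {f : ℕ} (hf : Nat.card F = 2 ^ f) (hodd : f % 2 = 1) :
    ∃ μ : SL(4, F) → ℂ, CuspFour F μ ∧ ∃ g, conj (μ g) ≠ μ g := by
  obtain ⟨L, _, _, _, θ, hn, hθ, hc, hreg, hl1, hcop, -, hres'⟩ := exists_common F hf hodd (l := 15) (by norm_num)
    dvd_rfl (by rintro r (rfl | rfl | rfl) <;> decide) (by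
      intro k hk
      have h3 : k % 3 ≠ 0 := by
        intro h0
        have h1 : 3 ∣ Nat.gcd k 15 := Nat.dvd_gcd (Nat.dvd_of_mod_eq_zero h0) (by norm_num)
        rw [hk] at h1
        omega
      have h5 : k % 5 ≠ 0 := by
        intro h0
        have h1 : 5 ∣ Nat.gcd k 15 := Nat.dvd_gcd (Nat.dvd_of_mod_eq_zero h0) (by norm_num)
        rw [hk] at h1
        omega
      rcases (by omega : k % 15 = 1 ∨ k % 15 = 2 ∨ k % 15 = 4 ∨ k % 15 = 8 ∨ k % 15 = 14 ∨ k % 15 = 13 ∨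
        k % 15 = 11 ∨ k % 15 = 7) with h | h | h | h | h | h | h | h
      · exact ⟨1, by norm_num, Or.inl h⟩
      · exact ⟨2, by norm_num, Or.inl h⟩
      · exact ⟨4, by norm_num, Or.inl h⟩
      · exact ⟨8, by norm_num, Or.inl h⟩
      · exact ⟨1, by norm_num, Or.inr (by omega)⟩
      · exact ⟨2, by norm_num, Or.inr (by omega)⟩
      · exact ⟨4, by norm_num, Or.inr (by omega)⟩
      · exact ⟨8, by norm_num, Or.inr (by omega)⟩)
  refine ⟨sl L θ, hc, hθ.conj_ne hn hcop hl1 hreg fun i _ => ?_⟩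
  have := hres' i
  omega

end exist

end Cfsg.Agent.H641.Gow
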