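import Cfsg.Agent.H641.Gow.Comp
import Cfsg.Agent.H641.Gow.Real
import Cfsg.Agent.H627.Gow.Rgd
import Cfsg.Agent.S0188

/-!
# Two orthogonal components of type `A_3` (S4913, helper641)

`ratOdd_pair` : `R` a root group datum, `J = K₁ ∪ K₂` two orthogonal chains of length three with a real cuspidal
character of `M_K₁` and a non-real one of `M_K₂` (`Comp`), at most two `w` permuting the simple roots of `J` fix those of
`K₂`, some `u` reverses both chains: then `RatOdd G`.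
-/

set_option autoImplicit false
set_option linter.unusedSectionVars false

namespace Cfsg.Agent.H641.Gow

open Cfsg.Agent.OddOrderCharacters.Clifford Cfsg.Agent.Characters Cfsg.Agent.H53.HC

open Cfsg CoxeterSystem Cfsg.Agent.ChevalleyStructure.CoxeterGeom Cfsg.Agent.Tits.Roots Cfsg.Agent.Tits.Core
  Cfsg.Agent.Tits.Exchange Cfsg.Agent.Nodes.Reps Cfsg.Agent.Nodes.BNOf Cfsg.Agent.Nodes.StabComb
  Cfsg.Agent.Nodes.Bruhat Cfsg.Agent.Nodes.OppDec Cfsg.Agent.Nodes.LeviDec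
open Cfsg.Agent.H627.Gow (exists_inner_hom inner_of_torus MJ_mono)
open Cfsg.Agent.H53.HC (MJ rad Cusp rad_le_MJ)
open scoped ComplexConjugate

variable {I W Y : Type*} [Fintype I] [DecidableEq I] [Group W] [Group Y] {M : CoxeterMatrix I}
  {cs : CoxeterSystem M W} {A : I → I → ℤ} {h : IsCartan M A} {p : ℕ} {T : Subgroup Y} {n : I → Y}
  {X : (I → ℤ) → Subgroup Y}

/-- a vector is the combination of the simple roots of its support -/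
theorem rep_rootsJ {K K' : Set I} {w : W} (hw : ∀ i ∈ K, ∃ j ∈ K', rep cs h w (sr i) = sr j) {x : I → ℤ}
    (hx : x ∈ RootsJ cs h K) : rep cs h w x ∈ RootsJ cs h K' := by
  refine ⟨hx.1.act w, fun k hk => ?_⟩
  have h1 : x = ∑ i, x i • sr i := by
    funext j
    rw [Finset.sum_apply, Finset.sum_eq_single j]
    · rw [Pi.smul_apply, sr_self, smul_eq_mul, mul_one]
    · intro i _ hij
      rw [Pi.smul_apply, sr_ne (Ne.symm hij), smul_zero]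
    · intro hj
      exact absurd (Finset.mem_univ _) hj
  rw [h1, map_sum, Finset.sum_apply]
  refine Finset.sum_eq_zero fun i _ => ?_
  rw [map_smul, Pi.smul_apply]
  by_cases hi : i ∈ K
  · obtain ⟨j, hj, e⟩ := hw i hi
    have hne : k ≠ j := by
      rintro rfl
      exact hk hj
    rw [e, sr_ne hne, smul_zero]
  · rw [hx.2 i hi, zero_smul]

section

variable (R : RGD cs h p T n X)

include R

theorem conj_mem_of {K K' : Set I} {w : W} {g : Y} (hg : Rp cs R.nsys w g)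
    (hw : ∀ i ∈ K, ∃ j ∈ K', rep cs h w (sr i) = sr j) {m : Y} (hm : m ∈ MJ cs h X K) :
    g * m * g⁻¹ ∈ MJ cs h X K' := by
  have hle : MJ cs h X K ≤ (MJ cs h X K').comap (MulAut.conj g).toMonoidHom := by
    refine RGD.Sup_le fun x hx u hu => ?_
    rw [Subgroup.mem_comap]
    exact RGD.le_Sup (rep_rootsJ hw hx) (R.conj_mem hg hx.1 hu)
  exact hle hm

theorem conj_mem_of' {K K' : Set I} {w : W} {g : Y} (hg : Rp cs R.nsys w g)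
    (hw : ∀ i ∈ K, ∃ j ∈ K', rep cs h w⁻¹ (sr i) = sr j) {m : Y} (hm : m ∈ MJ cs h X K) :
    g⁻¹ * m * g ∈ MJ cs h X K' := by
  have := conj_mem_of R hg.inv hw hm
  rwa [inv_inv] at this

/-- the projection to a component -/
theorem exists_proj [Finite W] {J K : Set I}
    (hcen : ∀ z ∈ MJ cs h X K, (∀ m ∈ MJ cs h X K, z * m = m * z) → z = 1)
    (hin : ∀ t ∈ LJ cs h T X J, ∃ a ∈ MJ cs h X K, ∀ m ∈ MJ cs h X K, t * m * t⁻¹ = a * m * a⁻¹) :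
    ∃ c : ↥(LJ cs h T X J) →* ↥(MJ cs h X K),
      (∀ (t : ↥(LJ cs h T X J)) (a : Y) (ha : a ∈ MJ cs h X K),
        (∀ m ∈ MJ cs h X K, (t : Y) * m * (t : Y)⁻¹ = a * m * a⁻¹) → c t = ⟨a, ha⟩) ∧
      ∀ (t : ↥(LJ cs h T X J)) (m : Y), m ∈ MJ cs h X K → (t : Y) * m * (t : Y)⁻¹ = (c t : Y) * m * (c t : Y)⁻¹ := by
  obtain ⟨c, hc⟩ := exists_inner_hom (LJ cs h T X J) (MJ cs h X K) hcen hin
  refine ⟨c, hc, fun t m hm => ?_⟩
  obtain ⟨a, ha, h1⟩ := hin t t.2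
  rw [hc t a ha h1]
  exact h1 m hm

end

section pair

variable [Finite W] [Fintype Y] (R : RGD cs h p T n X) {k₁ k₂ : Fin 3 ↪ I}

include R

theorem perm_of_maps {K : Set I} {w : W} (hw : ∀ i ∈ K, ∃ j ∈ K, rep cs h w (sr i) = sr j)
    (hs : ∀ j ∈ K, ∃ i ∈ K, rep cs h w (sr i) = sr j) : Perm cs h K w := by
  refine ⟨fun j hj => ?_, hw⟩
  obtain ⟨i, hi, e⟩ := hs j hj
  exact ⟨i, hi, by rw [← e, ← rep_mul_apply, inv_mul_cancel, map_one]; rfl⟩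

/-- **Two components of type `A_3`.** -/
theorem ratOdd_pair (hG : GG cs h T X = ⊤) (ho : Orth A (Set.range k₁) (Set.range k₂))
    {θ₁ : ↥(MJ cs h X (Set.range k₁)) → ℂ} {θ₂ : ↥(MJ cs h X (Set.range k₂)) → ℂ} (h₁ : Comp R k₁ θ₁)
    (h₂ : Comp R k₂ θ₂) (hre : ∀ m, conj (θ₁ m) = θ₁ m) (hne : ∃ m, conj (θ₂ m) ≠ θ₂ m)
    (hin₁ : ∀ t ∈ T, ∃ a ∈ MJ cs h X (Set.range k₁), ∀ m ∈ MJ cs h X (Set.range k₁), t * m * t⁻¹ = a * m * a⁻¹)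
    (hin₂ : ∀ t ∈ T, ∃ a ∈ MJ cs h X (Set.range k₂), ∀ m ∈ MJ cs h X (Set.range k₂), t * m * t⁻¹ = a * m * a⁻¹)
    (hodd : Odd (PJ cs h T X (Set.range k₁ ∪ Set.range k₂)).index)
    (hch : ∀ w, Perm cs h (Set.range k₁ ∪ Set.range k₂) w → (∀ i, rep cs h w (sr (k₂ i)) = sr (k₂ i)) ∨
      (∀ i, rep cs h w (sr (k₂ i)) = sr (k₂ (Fin.rev i))) ∨ ∀ i, ∃ j, rep cs h w (sr (k₂ i)) = sr (k₁ j))
    (hu : ∃ u, Perm cs h (Set.range k₁ ∪ Set.range k₂) u ∧ (∀ i, rep cs h u (sr (k₁ i)) = sr (k₁ (Fin.rev i))) ∧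
      ∀ i, rep cs h u (sr (k₂ i)) = sr (k₂ (Fin.rev i)))
    (hcount : {w | Perm cs h (Set.range k₁ ∪ Set.range k₂) w ∧ ∀ i, rep cs h w (sr (k₂ i)) = sr (k₂ i)}.ncard ≤ 2) :
    Cfsg.Agent.H636.Gow.RatOdd Y := by
  classical
  obtain ⟨d₁, hd₁, e₁⟩ := h₁.odd
  obtain ⟨d₂, hd₂, e₂⟩ := h₂.odd
  have hcomm := ho.comm (cs := cs) (h := h) R
  obtain ⟨c₁, hc₁, hc₁'⟩ := exists_proj R (J := Set.range k₁ ∪ Set.range k₂) h₁.cen (inner_of_torus R ho hin₁)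
  obtain ⟨c₂, hc₂, hc₂'⟩ := exists_proj R (J := Set.range k₁ ∪ Set.range k₂) h₂.cen (by
    have := inner_of_torus R ho.symm hin₂
    rwa [Set.union_comm] at this)
  have hle₁ : MJ cs h X (Set.range k₁) ≤ LJ cs h T X (Set.range k₁ ∪ Set.range k₂) :=
    le_trans (MJ_mono Set.subset_union_left) (MJ_le_LJ _)
  have hle₂ : MJ cs h X (Set.range k₂) ≤ LJ cs h T X (Set.range k₁ ∪ Set.range k₂) :=
    le_trans (MJ_mono Set.subset_union_right) (MJ_le_LJ _)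
  have v11 : ∀ (a : Y) (ha : a ∈ MJ cs h X (Set.range k₁)), c₁ ⟨a, hle₁ ha⟩ = ⟨a, ha⟩ :=
    fun a ha => hc₁ _ a ha fun _ _ => rfl
  have v22 : ∀ (a : Y) (ha : a ∈ MJ cs h X (Set.range k₂)), c₂ ⟨a, hle₂ ha⟩ = ⟨a, ha⟩ :=
    fun a ha => hc₂ _ a ha fun _ _ => rfl
  have v12 : ∀ (a : Y) (ha : a ∈ MJ cs h X (Set.range k₁)), c₂ ⟨a, hle₁ ha⟩ = 1 := by
    intro a ha
    refine hc₂ _ 1 (one_mem _) fun m hm => ?_
    change a * m * a⁻¹ = 1 * m * 1⁻¹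
    rw [hcomm a ha m hm]
    group
  have v21 : ∀ (a : Y) (ha : a ∈ MJ cs h X (Set.range k₂)), c₁ ⟨a, hle₂ ha⟩ = 1 := by
    intro a ha
    refine hc₁ _ 1 (one_mem _) fun m hm => ?_
    change a * m * a⁻¹ = 1 * m * 1⁻¹
    rw [← hcomm m hm a ha]
    group
  -- the character
  let α : ↥(LJ cs h T X (Set.range k₁ ∪ Set.range k₂)) → ℂ := fun l => θ₁ (c₁ l) * θ₂ (c₂ l)
  have hαdef : ∀ l, α l = θ₁ (c₁ l) * θ₂ (c₂ l) := fun l => rfl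
  have hα1 : ∀ (a : Y) (ha : a ∈ MJ cs h X (Set.range k₁)), α ⟨a, hle₁ ha⟩ = θ₁ ⟨a, ha⟩ * θ₂ 1 := by
    intro a ha
    rw [hαdef, v11 a ha, v12 a ha]
  have hα2 : ∀ (a : Y) (ha : a ∈ MJ cs h X (Set.range k₂)), α ⟨a, hle₂ ha⟩ = θ₁ 1 * θ₂ ⟨a, ha⟩ := by
    intro a ha
    rw [hαdef, v22 a ha, v21 a ha]
  have n₁ : θ₁ 1 ≠ 0 := Core.isIrr_apply_one_ne_zero h₁.cusp.irr
  have n₂ : θ₂ 1 ≠ 0 := Core.isIrr_apply_one_ne_zero h₂.cusp.irr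
  have hirr : IsIrrCharacter _ α := by
    have h3 : Function.Surjective (c₁.prod c₂) := by
      rintro ⟨⟨a, ha⟩, ⟨b, hb⟩⟩
      refine ⟨⟨a, hle₁ ha⟩ * ⟨b, hle₂ hb⟩, ?_⟩
      rw [MonoidHom.prod_apply, map_mul, map_mul, v11 a ha, v12 a ha, v21 b hb, v22 b hb, mul_one, one_mul]
    have h4 := Core.isIrr_comp (c₁.prod c₂) h3 (Cfsg.Agent.S0188.isIrr_outer h₁.cusp.irr h₂.cusp.irr)
    exact h4
  have hcusp : CuspL cs h T X (Set.range k₁ ∪ Set.range k₂) α := by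
    intro i hi _
    rcases hi with hi | hi
    · have e := ho.rad_eq (cs := cs) (h := h) (X := X) hi
      have hf : Fintype (rad cs h X (Set.range k₁) i) := Fintype.ofFinite _
      have h5 := h₁.cusp.van i hi
      have h6 : ∑ u : rad cs h X (Set.range k₁ ∪ Set.range k₂) i, α ⟨u, rad_le_LJ _ i u.2⟩ =
          ∑ u : rad cs h X (Set.range k₁) i, θ₁ ⟨u, rad_le_MJ _ i u.2⟩ * θ₂ 1 := by
        refine Fintype.sum_equiv (MulEquiv.subgroupCongr e).toEquiv _ _ fun u => ?_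
        exact hα1 (u : Y) (rad_le_MJ _ i (e ▸ u.2))
      rw [h6, ← Finset.sum_mul, h5, zero_mul]
    · have e : rad cs h X (Set.range k₁ ∪ Set.range k₂) i = rad cs h X (Set.range k₂) i := by
        rw [Set.union_comm]
        exact ho.symm.rad_eq hi
      have hf : Fintype (rad cs h X (Set.range k₂) i) := Fintype.ofFinite _
      have h5 := h₂.cusp.van i hi
      have h6 : ∑ u : rad cs h X (Set.range k₁ ∪ Set.range k₂) i, α ⟨u, rad_le_LJ _ i u.2⟩ =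
          ∑ u : rad cs h X (Set.range k₂) i, θ₁ 1 * θ₂ ⟨u, rad_le_MJ _ i u.2⟩ := by
        refine Fintype.sum_equiv (MulEquiv.subgroupCongr e).toEquiv _ _ fun u => ?_
        exact hα2 (u : Y) (rad_le_MJ _ i (e ▸ u.2))
      rw [h6, ← Finset.mul_sum, h5, mul_zero]
  have hre' : ∀ σ : ℂ ≃+* ℂ, ∀ m, σ (θ₁ m) = θ₁ m := by
    intro σ m
    rcases h₁.galois σ with h3 | h3
    · exact h3 m
    · rw [h3, hre]
  refine ratOdd_of_cusp R hG ⟨k₁ 0, Or.inl ⟨0, rfl⟩⟩ hirr hcusp (hd₁.mul hd₂) ?_ hodd ?_ ?_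
  · rw [hαdef, map_one, map_one, e₁, e₂, Nat.cast_mul]
  · -- Galois conjugates
    intro σ
    rcases h₂.galois σ with h3 | h3
    · refine ⟨1, 1, rp_one, Perm.one' cs h _, fun l hl hl' => ?_⟩
      have e : (⟨1⁻¹ * l * 1, hl'⟩ : ↥(LJ cs h T X (Set.range k₁ ∪ Set.range k₂))) = ⟨l, hl⟩ := by
        apply Subtype.ext
        change 1⁻¹ * l * 1 = l
        group
      change α ⟨l, hl⟩ = σ (α ⟨1⁻¹ * l * 1, hl'⟩)
      rw [e, hαdef, map_mul, hre', h3]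
    · obtain ⟨u, hup, hu1, hu2⟩ := hu
      obtain ⟨g, hg⟩ := exists_rp cs R.nsys u
      refine ⟨u, g, hg, hup, fun l hl hl' => ?_⟩
      change α ⟨l, hl⟩ = σ (α ⟨g⁻¹ * l * g, hl'⟩)
      have m1 : ∀ i ∈ Set.range k₁, ∃ j ∈ Set.range k₁, rep cs h u (sr i) = sr j := by
        rintro _ ⟨i, rfl⟩
        exact ⟨_, ⟨_, rfl⟩, hu1 i⟩
      have m2 : ∀ i ∈ Set.range k₂, ∃ j ∈ Set.range k₂, rep cs h u (sr i) = sr j := by
        rintro _ ⟨i, rfl⟩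
        exact ⟨_, ⟨_, rfl⟩, hu2 i⟩
      have m1' : ∀ i ∈ Set.range k₁, ∃ j ∈ Set.range k₁, rep cs h u⁻¹ (sr i) = sr j := by
        rintro _ ⟨i, rfl⟩
        refine ⟨_, ⟨Fin.rev i, rfl⟩, ?_⟩
        have := hu1 (Fin.rev i)
        rw [Fin.rev_rev] at this
        rw [← this, ← rep_mul_apply, inv_mul_cancel, map_one]; rfl
      have m2' : ∀ i ∈ Set.range k₂, ∃ j ∈ Set.range k₂, rep cs h u⁻¹ (sr i) = sr j := by
        rintro _ ⟨i, rfl⟩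
        refine ⟨_, ⟨Fin.rev i, rfl⟩, ?_⟩
        have := hu2 (Fin.rev i)
        rw [Fin.rev_rev] at this
        rw [← this, ← rep_mul_apply, inv_mul_cancel, map_one]; rfl
      have q1 : g⁻¹ * (c₁ ⟨l, hl⟩ : Y) * g ∈ MJ cs h X (Set.range k₁) := conj_mem_of' R hg m1' (c₁ ⟨l, hl⟩).2
      have q2 : g⁻¹ * (c₂ ⟨l, hl⟩ : Y) * g ∈ MJ cs h X (Set.range k₂) := conj_mem_of' R hg m2' (c₂ ⟨l, hl⟩).2
      have r1 : c₁ ⟨g⁻¹ * l * g, hl'⟩ = ⟨g⁻¹ * (c₁ ⟨l, hl⟩ : Y) * g, q1⟩ := by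
        refine hc₁ _ _ q1 fun m hm => ?_
        have h4 := hc₁' ⟨l, hl⟩ (g * m * g⁻¹) (conj_mem_of R hg m1 hm)
        change g⁻¹ * l * g * m * (g⁻¹ * l * g)⁻¹ = _
        calc g⁻¹ * l * g * m * (g⁻¹ * l * g)⁻¹ = g⁻¹ * (l * (g * m * g⁻¹) * l⁻¹) * g := by group
          _ = g⁻¹ * ((c₁ ⟨l, hl⟩ : Y) * (g * m * g⁻¹) * (c₁ ⟨l, hl⟩ : Y)⁻¹) * g := by rw [← h4]
          _ = _ := by group
      have r2 : c₂ ⟨g⁻¹ * l * g, hl'⟩ = ⟨g⁻¹ * (c₂ ⟨l, hl⟩ : Y) * g, q2⟩ := by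
        refine hc₂ _ _ q2 fun m hm => ?_
        have h4 := hc₂' ⟨l, hl⟩ (g * m * g⁻¹) (conj_mem_of R hg m2 hm)
        change g⁻¹ * l * g * m * (g⁻¹ * l * g)⁻¹ = _
        calc g⁻¹ * l * g * m * (g⁻¹ * l * g)⁻¹ = g⁻¹ * (l * (g * m * g⁻¹) * l⁻¹) * g := by group
          _ = g⁻¹ * ((c₂ ⟨l, hl⟩ : Y) * (g * m * g⁻¹) * (c₂ ⟨l, hl⟩ : Y)⁻¹) * g := by rw [← h4]
          _ = _ := by group
      have s1 : θ₁ (c₁ ⟨l, hl⟩) = conj (θ₁ ⟨g⁻¹ * (c₁ ⟨l, hl⟩ : Y) * g, q1⟩) := by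
        have e : g * (g⁻¹ * (c₁ ⟨l, hl⟩ : Y) * g) * g⁻¹ = (c₁ ⟨l, hl⟩ : Y) := by group
        have h4 := h₁.swap u g hg hu1 _ q1 (by rw [e]; exact (c₁ ⟨l, hl⟩).2)
        rw [← h4]
        exact congrArg θ₁ (Subtype.ext e.symm)
      have s2 : θ₂ (c₂ ⟨l, hl⟩) = conj (θ₂ ⟨g⁻¹ * (c₂ ⟨l, hl⟩ : Y) * g, q2⟩) := by
        have e : g * (g⁻¹ * (c₂ ⟨l, hl⟩ : Y) * g) * g⁻¹ = (c₂ ⟨l, hl⟩ : Y) := by group
        have h4 := h₂.swap u g hg hu2 _ q2 (by rw [e]; exact (c₂ ⟨l, hl⟩).2)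
        rw [← h4]
        exact congrArg θ₂ (Subtype.ext e.symm)
      rw [hαdef, hαdef, r1, r2, map_mul, hre', h3, s1, s2, hre]
  · -- the stabiliser
    refine le_trans (Set.ncard_le_ncard ?_ (Set.toFinite _)) hcount
    rintro w ⟨hw, g, hg, ht⟩
    refine ⟨hw, ?_⟩
    rcases hch w hw with h3 | h3 | h3
    · exact h3
    · exfalso
      obtain ⟨⟨m, hm⟩, hmne⟩ := hne
      apply hmne
      have m2 : ∀ i ∈ Set.range k₂, ∃ j ∈ Set.range k₂, rep cs h w (sr i) = sr j := by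
        rintro _ ⟨i, rfl⟩
        exact ⟨_, ⟨_, rfl⟩, h3 i⟩
      have h4 : g * m * g⁻¹ ∈ MJ cs h X (Set.range k₂) := conj_mem_of R hg m2 hm
      have e : g⁻¹ * (g * m * g⁻¹) * g = m := by group
      have h5 := ht (g * m * g⁻¹) (hle₂ h4) (by rw [e]; exact hle₂ hm)
      have e2 : (⟨g⁻¹ * (g * m * g⁻¹) * g, by rw [e]; exact hle₂ hm⟩ :
        ↥(LJ cs h T X (Set.range k₁ ∪ Set.range k₂))) = ⟨m, hle₂ hm⟩ := Subtype.ext e
      rw [e2, hα2 _ h4, hα2 m hm] at h5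
      rw [← h₂.swap w g hg h3 m hm h4]
      exact mul_left_cancel₀ n₁ h5
    · exfalso
      obtain ⟨⟨m, hm⟩, hmne⟩ := hne
      apply hmne
      have m2 : ∀ i ∈ Set.range k₂, ∃ j ∈ Set.range k₁, rep cs h w (sr i) = sr j := by
        rintro _ ⟨i, rfl⟩
        obtain ⟨j, hj⟩ := h3 i
        exact ⟨_, ⟨_, rfl⟩, hj⟩
      have h4 : g * m * g⁻¹ ∈ MJ cs h X (Set.range k₁) := conj_mem_of R hg m2 hm
      have e : g⁻¹ * (g * m * g⁻¹) * g = m := by group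
      have h5 := ht (g * m * g⁻¹) (hle₁ h4) (by rw [e]; exact hle₂ hm)
      have e3 : (⟨g⁻¹ * (g * m * g⁻¹) * g, by rw [e]; exact hle₂ hm⟩ :
        ↥(LJ cs h T X (Set.range k₁ ∪ Set.range k₂))) = ⟨m, hle₂ hm⟩ := Subtype.ext e
      rw [e3, hα1 _ h4, hα2 m hm] at h5
      have h6 : θ₂ ⟨m, hm⟩ = (θ₁ 1)⁻¹ * (θ₁ ⟨g * m * g⁻¹, h4⟩ * θ₂ 1) := by
        rw [h5, inv_mul_cancel_left₀ n₁]
      rw [h6, map_mul, map_mul, map_inv₀, hre, hre, e₂, map_natCast]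

end pair

end Cfsg.Agent.H641.Gow
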